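import Groth.Agent.IdealSh.Regular
import Mathlib.AlgebraicGeometry.Morphisms.SchemeTheoreticallyDominant
import Mathlib.RingTheory.LocalProperties.Reduced

/-!
# First properties of blow-ups defined through the universal property
-/

set_option autoImplicit false
set_option maxHeartbeats 400000

universe u

open CategoryTheory CategoryTheory.Limits AlgebraicGeometry TopologicalSpace
open Groth.Agent.IdealSh

namespace Groth.Agent.BlowUp.Basic

variable {X X' X'' Y : Scheme.{u}}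

lemma hom_ext {b : X' ⟶ X} {𝓘 : X.IdealSheafData} (hb : BlowUp.IsBlowUp b 𝓘) {g₁ g₂ : Y ⟶ X'}
    (he : BlowUp.IsEffCartierIdeal (𝓘.comap (g₁ ≫ b))) (h : g₁ ≫ b = g₂ ≫ b) : g₁ = g₂ :=
  (hb.2 Y (g₁ ≫ b) he).unique rfl h.symm

lemma hom_ext_of_disjoint {b : X' ⟶ X} {𝓘 : X.IdealSheafData} (hb : BlowUp.IsBlowUp b 𝓘)
    {g₁ g₂ : Y ⟶ X'} (hd : Disjoint (Set.range (g₁ ≫ b)) (𝓘.support : Set X))
    (h : g₁ ≫ b = g₂ ≫ b) : g₁ = g₂ :=
  hom_ext hb (by rw [Comap.comap_eq_top_of_disjoint _ _ hd]; exact EffCartier.top) h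

/-- A blow-up is an isomorphism off its centre. -/
lemma isIso_restrict {b : X' ⟶ X} {𝓘 : X.IdealSheafData} (hb : BlowUp.IsBlowUp b 𝓘) (U : X.Opens)
    (hU : Disjoint (U : Set X) (𝓘.support : Set X)) : IsIso (b ∣_ U) := by
  have hr : Disjoint (Set.range U.ι) (𝓘.support : Set X) := by
    rwa [Scheme.Opens.range_ι]
  obtain ⟨s, hs, -⟩ := hb.2 _ U.ι
    (by rw [Comap.comap_eq_top_of_disjoint _ _ hr]; exact EffCartier.top)
  have hrange : Set.range s ⊆ (b ⁻¹ᵁ U : X'.Opens) := by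
    rintro _ ⟨x, rfl⟩
    change b (s x) ∈ U
    rw [← Scheme.Hom.comp_apply, hs]
    exact x.2
  let t : (U : Scheme.{u}) ⟶ (b ⁻¹ᵁ U : X'.Opens) :=
    IsOpenImmersion.lift (b ⁻¹ᵁ U).ι s (by rwa [Scheme.Opens.range_ι])
  have ht : t ≫ (b ⁻¹ᵁ U).ι = s := IsOpenImmersion.lift_fac _ _ _
  refine ⟨t, ?_, ?_⟩
  · rw [← cancel_mono (b ⁻¹ᵁ U).ι, Category.assoc, ht, Category.id_comp]
    refine hom_ext_of_disjoint hb ?_ ?_
    · rw [Category.assoc, hs, morphismRestrict_ι]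
      refine hU.mono_left ?_
      rintro _ ⟨x, rfl⟩
      exact x.2
    · rw [Category.assoc, hs, morphismRestrict_ι]
  · rw [← cancel_mono U.ι, Category.assoc, morphismRestrict_ι, ← Category.assoc, ht, hs,
      Category.id_comp]

lemma isOpenImmersion_ι_comp {b : X' ⟶ X} {𝓘 : X.IdealSheafData} (hb : BlowUp.IsBlowUp b 𝓘)
    (W : X'.Opens) (hW : Disjoint (W : Set X') ((𝓘.comap b).support : Set X')) :
    IsOpenImmersion (W.ι ≫ b) := by
  let C : X.Opens := 𝓘.support.compl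
  have := isIso_restrict hb C disjoint_compl_left
  have hle : W ≤ b ⁻¹ᵁ C := by
    intro x hx hmem
    refine hW.le_bot ⟨hx, ?_⟩
    rw [Scheme.IdealSheafData.support_comap]
    exact hmem
  have h2 : X'.homOfLE hle ≫ (b ∣_ C) ≫ C.ι = W.ι ≫ b := by
    rw [morphismRestrict_ι, ← Category.assoc, Scheme.homOfLE_ι]
  rw [← h2]
  infer_instance

/-- The workhorse: flatness off the exceptional divisor lets nonzerodivisors pull back. -/
lemma appLE_mem_nonZeroDivisors {b : X' ⟶ X} {𝓘 : X.IdealSheafData} (hb : BlowUp.IsBlowUp b 𝓘)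
    (U : X.affineOpens) (V : X'.affineOpens) (e : V.1 ≤ b ⁻¹ᵁ U.1) {c : Γ(X', V.1)}
    (hc : c ∈ nonZeroDivisors Γ(X', V.1)) (hce : (𝓘.comap b).ideal V = Ideal.span {c})
    {a : Γ(X, U.1)} (ha : a ∈ nonZeroDivisors Γ(X, U.1)) :
    (b.appLE U V e).hom a ∈ nonZeroDivisors Γ(X', V.1) := by
  have := isOpenImmersion_ι_comp hb (X'.basicOpen c) (by
    rw [Regular.basicOpen_eq_compl_support hce]; exact Set.disjoint_sdiff_left)
  have hflat := Regular.flat_appLE_of_flat_ι b U.2 (V.2.basicOpen c)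
    ((X'.basicOpen_le c).trans e)
  rw [mem_nonZeroDivisors_iff_right]
  intro y hy
  refine Regular.eq_zero_of_restrict_basicOpen V.2 hc ?_
  have h1 := congrArg (X'.presheaf.map (homOfLE (X'.basicOpen_le c)).op) hy
  rw [map_mul, map_zero, ← CommRingCat.comp_apply, Scheme.Hom.appLE_map] at h1
  exact mem_nonZeroDivisors_iff_right.mp
    (EffCartier.map_mem_nonZeroDivisors_of_flat _ hflat ha) _ h1

lemma isEffCartierIdeal_comap {b : X' ⟶ X} {𝓘 : X.IdealSheafData} (hb : BlowUp.IsBlowUp b 𝓘)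
    {𝓓 : X.IdealSheafData} (hD : BlowUp.IsEffCartierIdeal 𝓓) :
    BlowUp.IsEffCartierIdeal (𝓓.comap b) := fun x => by
  obtain ⟨U, hxU, a, ha, he⟩ := hD (b x)
  obtain ⟨V, hxV, hle, c, hc, hce⟩ := EffCartier.exists_equation hb.1 x (b ⁻¹ᵁ U.1) hxU
  exact ⟨V, hxV, _, appLE_mem_nonZeroDivisors hb U V hle hc hce ha,
    Comap.ideal_comap_span_singleton 𝓓 b U V hle he⟩

lemma germ_app_mem_nonZeroDivisors {b : X' ⟶ X} {𝓘 : X.IdealSheafData} (hb : BlowUp.IsBlowUp b 𝓘)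
    (U : X.Opens) (s : Γ(X, U))
    (hs : ∀ (y : X) (hy : y ∈ U), X.presheaf.germ U y hy s ∈ nonZeroDivisors (X.presheaf.stalk y))
    (x : X') (hx : x ∈ b ⁻¹ᵁ U) :
    X'.presheaf.germ (b ⁻¹ᵁ U) x hx (b.app U s) ∈ nonZeroDivisors (X'.presheaf.stalk x) := by
  obtain ⟨U₀, hxU₀, hU₀⟩ := Comap.exists_affine_le (b x) U hx
  obtain ⟨V, hxV, hle, c, hc, hce⟩ := EffCartier.exists_equation hb.1 x (b ⁻¹ᵁ U₀.1) hxU₀
  have ha : X.presheaf.map (homOfLE hU₀).op s ∈ nonZeroDivisors Γ(X, U₀.1) :=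
    Regular.mem_nonZeroDivisors_of_germ fun y hy => by
      rw [TopCat.Presheaf.germ_res_apply]; exact hs y _
  have h1 := Regular.germ_mem_nonZeroDivisors V.2 x hxV
    (appLE_mem_nonZeroDivisors hb U₀ V hle hc hce ha)
  have h2 : (b.appLE U₀ V hle).hom (X.presheaf.map (homOfLE hU₀).op s) =
      X'.presheaf.map (homOfLE (hle.trans (b.preimage_mono hU₀))).op (b.app U s) := by
    change (X.presheaf.map (homOfLE hU₀).op ≫ b.appLE U₀ V hle) s =
      (b.app U ≫ X'.presheaf.map _) s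
    rw [Scheme.Hom.map_appLE]
    rfl
  rw [h2, TopCat.Presheaf.germ_res_apply] at h1
  exact h1

/-- Blow-up of a reduced scheme is reduced. -/
lemma isReduced {b : X' ⟶ X} [IsReduced X] {𝓘 : X.IdealSheafData} (hb : BlowUp.IsBlowUp b 𝓘) :
    IsReduced X' := by
  have : ∀ x : X', _root_.IsReduced (X'.presheaf.stalk x) := fun x => by
    obtain ⟨V, hxV, -, c, hc, hce⟩ := EffCartier.exists_equation hb.1 x ⊤ trivial
    have := isOpenImmersion_ι_comp hb (X'.basicOpen c) (by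
      rw [Regular.basicOpen_eq_compl_support hce]; exact Set.disjoint_sdiff_left)
    have hred : IsReduced (X'.basicOpen c : Scheme.{u}) :=
      isReduced_of_isOpenImmersion ((X'.basicOpen c).ι ≫ b)
    have : _root_.IsReduced Γ(X', V.1) := by
      refine ⟨fun y hy => Regular.eq_zero_of_restrict_basicOpen V.2 hc ?_⟩
      have hbij : Function.Bijective ((X'.basicOpen c).ι.appLE (X'.basicOpen c) ⊤
          (X'.basicOpen c).ι_preimage_self.ge).hom := ConcreteCategory.bijective_of_isIso _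
      exact hbij.1 (((hy.map _).map _).eq_zero.trans (map_zero _).symm)
    letI := TopCat.Presheaf.algebra_section_stalk X'.presheaf ⟨x, hxV⟩
    have := V.2.isLocalization_stalk ⟨x, hxV⟩
    exact isReduced_localizationPreserves (V.2.primeIdealOf ⟨x, hxV⟩).asIdeal.primeCompl
      (X'.presheaf.stalk x) ‹_›
  exact isReduced_of_isReduced_stalk X'

lemma flat_baseChange {X₁ X₂ X₂' : Scheme.{u}} (g : X₁ ⟶ X₂) [Flat g] {𝓘 : X₂.IdealSheafData}
    {b : X₂' ⟶ X₂} (hb : BlowUp.IsBlowUp b 𝓘) :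
    BlowUp.IsBlowUp (pullback.fst g b) (𝓘.comap g) := by
  constructor
  · rw [← Scheme.IdealSheafData.comap_comp, pullback.condition, Scheme.IdealSheafData.comap_comp]
    exact EffCartier.comap_of_flat _ hb.1
  · intro Y h hh
    rw [← Scheme.IdealSheafData.comap_comp] at hh
    obtain ⟨k, hk, huniq⟩ := hb.2 Y (h ≫ g) hh
    refine ⟨pullback.lift h k hk.symm, pullback.lift_fst _ _ _, fun l hl => ?_⟩
    apply pullback.hom_ext
    · rw [pullback.lift_fst]; exact hl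
    · rw [pullback.lift_snd]
      exact huniq _ (by beta_reduce at hl ⊢; rw [Category.assoc, ← pullback.condition, ← Category.assoc, hl])

lemma mul_effCartier {b : X' ⟶ X} {𝓘 𝓓 : X.IdealSheafData} (hb : BlowUp.IsBlowUp b 𝓘)
    (hD : BlowUp.IsEffCartierIdeal 𝓓) : BlowUp.IsBlowUp b (𝓘 * 𝓓) := by
  constructor
  · rw [Comap.comap_mul]; exact EffCartier.mul hb.1 (isEffCartierIdeal_comap hb hD)
  · intro Y g hg
    rw [Comap.comap_mul] at hg
    exact hb.2 Y g (EffCartier.factor_left hg)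

lemma comp_mul {b : X' ⟶ X} {b' : X'' ⟶ X'} {𝓘 𝓙 : X.IdealSheafData} (hb : BlowUp.IsBlowUp b 𝓘)
    (hb' : BlowUp.IsBlowUp b' (𝓙.comap b)) : BlowUp.IsBlowUp (b' ≫ b) (𝓘 * 𝓙) := by
  constructor
  · rw [Scheme.IdealSheafData.comap_comp, Comap.comap_mul, Comap.comap_mul]
    exact EffCartier.mul (isEffCartierIdeal_comap hb' hb.1) hb'.1
  · intro Y g hg
    rw [Comap.comap_mul] at hg
    obtain ⟨h, hh, huniq⟩ := hb.2 Y g (EffCartier.factor_left hg)
    have h2 := EffCartier.factor_right hg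
    rw [← hh, Scheme.IdealSheafData.comap_comp] at h2
    obtain ⟨k, hk, huniq'⟩ := hb'.2 Y h h2
    refine ⟨k, by beta_reduce; rw [← Category.assoc, hk, hh], fun l hl => huniq' l ?_⟩
    exact huniq _ (by beta_reduce at hl ⊢; rw [Category.assoc, hl])

/-- Two blow-ups in the same centre are uniquely isomorphic. -/
lemma exists_iso {b : X' ⟶ X} {b' : X'' ⟶ X} {𝓘 : X.IdealSheafData} (hb : BlowUp.IsBlowUp b 𝓘)
    (hb' : BlowUp.IsBlowUp b' 𝓘) : ∃ e : X'' ≅ X', e.hom ≫ b = b' := by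
  obtain ⟨h, hh, -⟩ := hb.2 _ b' hb'.1
  obtain ⟨k, hk, -⟩ := hb'.2 _ b hb.1
  refine ⟨⟨h, k, ?_, ?_⟩, hh⟩
  · refine hom_ext hb' ?_ (by rw [Category.assoc, hk, hh, Category.id_comp])
    rw [Category.assoc, hk, hh]; exact hb'.1
  · refine hom_ext hb ?_ (by rw [Category.assoc, hh, hk, Category.id_comp])
    rw [Category.assoc, hh, hk]; exact hb.1

lemma isBlowUp_iso_comp {b : X' ⟶ X} {𝓘 : X.IdealSheafData} (hb : BlowUp.IsBlowUp b 𝓘)
    (e : X'' ≅ X') : BlowUp.IsBlowUp (e.hom ≫ b) 𝓘 := by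
  constructor
  · rw [Scheme.IdealSheafData.comap_comp]; exact (EffCartier.comap_iso_iff _ _).mpr hb.1
  · intro Y g hg
    obtain ⟨h, hh, huniq⟩ := hb.2 Y g hg
    exact ⟨h ≫ e.inv, by simp [hh], fun l hl => (Iso.eq_comp_inv e).mpr (huniq _ (by simpa using hl))⟩

end Groth.Agent.BlowUp.Basic
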