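import Groth.Agent.BlowUpProper.Basic
import Groth.Agent.IdealSh.IdealMod
import Groth.Agent.AmpleLib.Rel
import Groth.Agent.AlgSp.CartierDesc
import Groth.Agent.AssSch.Stalk

/-!
# The exceptional divisor of a blow-up gives a relatively ample invertible module
-/

set_option autoImplicit false
set_option maxHeartbeats 800000
set_option linter.style.haveILetI false

universe u

open CategoryTheory CategoryTheory.Limits AlgebraicGeometry TopologicalSpace Opposite
open Groth.Agent.IdealSh Groth.Agent.BlowUp Groth.Agent.BlowUp.AffineChart Groth.Agent.AmpleLib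
open Groth.Agent.Props.GenLocus Groth.Agent.Props.GenTensor Groth.Agent.Props.GenProd
open Groth.Agent.Omega.Stalks Groth.Agent.IdealSh.IdealMod OmegaSh

namespace Groth.Agent.BlowUp.RelAmple

variable {X X' : Scheme.{u}} {b : X' ⟶ X} {𝓘 : X.IdealSheafData}

/-- Morphisms to `Spec Γ(X, V)` on affine opens, in terms of `appLE`. -/
lemma res_glob {Y : Scheme.{u}} (h : Y ⟶ X) {V : X.Opens} (hV : IsAffineOpen V)
    (g : Y ⟶ Spec Γ(X, V)) (hg : g ≫ hV.fromSpec = h) (W : Y.Opens) (e : W ≤ h ⁻¹ᵁ V) (x : Γ(X, V)) :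
    AffineChart.res W (glob (A := Γ(X, V)) g x) = h.appLE V W e x := by
  subst hg
  have e1 : hV.fromSpec.appLE V ⊤ hV.fromSpec_preimage_self.ge = (Scheme.ΓSpecIso Γ(X, V)).inv := by
    rw [Scheme.Hom.appLE, hV.fromSpec_app_self, Category.assoc, ← Functor.map_comp]
    refine (congrArg ((Scheme.ΓSpecIso Γ(X, V)).inv ≫ ·) ?_).trans (Category.comp_id _)
    rw [← CategoryTheory.Functor.map_id]
    rfl
  have e2 : (g ≫ hV.fromSpec).appLE V W e =
      hV.fromSpec.appLE V ⊤ hV.fromSpec_preimage_self.ge ≫ g.appLE ⊤ W le_top :=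
    (Scheme.Hom.appLE_comp_appLE _ _ _ _ _ _ _).symm
  rw [e2, e1]
  rfl

/-- The pulled back centre in the coordinates of an affine open of the base. -/
lemma centre_comap_eq {Y : Scheme.{u}} (h : Y ⟶ X) (V : X.affineOpens) (g : Y ⟶ Spec Γ(X, V.1))
    (hg : g ≫ V.2.fromSpec = h) :
    (Existence.centre (A := Γ(X, V.1)) (𝓘.ideal V)).comap g = 𝓘.comap h := by
  refine Scheme.IdealSheafData.ext (funext fun W => ?_)
  have e : W.1 ≤ h ⁻¹ᵁ V.1 := fun z _ => by
    rw [← hg]
    show V.2.fromSpec (g z) ∈ V.1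
    have : V.2.fromSpec (g z) ∈ Set.range V.2.fromSpec := ⟨_, rfl⟩
    rwa [V.2.range_fromSpec] at this
  rw [Existence.centre_comap, Comap.ideal_comap 𝓘 h V W e]
  congr 1
  exact RingHom.ext fun x => res_glob h V.2 g hg W.1 e x

/-- An equation can be checked on smaller affine opens. -/
lemma gen_of_local (E : X'.IdealSheafData) (W : X'.affineOpens) (t : Γ(X', W.1)) (ht : t ∈ E.ideal W)
    (h : ∀ y ∈ W.1, ∃ (T : X'.affineOpens) (hT : T.1 ≤ W.1), y ∈ T.1 ∧
      X'.presheaf.map (homOfLE hT).op t ∈ nonZeroDivisors Γ(X', T.1) ∧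
      E.ideal T ≤ Ideal.span {X'.presheaf.map (homOfLE hT).op t}) :
    t ∈ nonZeroDivisors Γ(X', W.1) ∧ E.ideal W = Ideal.span {t} := by
  refine AlgSp.CartierDesc.equation_of_flat_cover _ _ fun p => ?_
  obtain ⟨⟨y, hy⟩, rfl⟩ : ∃ y : W.1, W.2.primeIdealOf y = p :=
    ⟨⟨W.2.fromSpec p, by rw [← SetLike.mem_coe, ← W.2.range_fromSpec]; exact Set.mem_range_self p⟩,
      W.2.fromSpec.isOpenEmbedding.injective (W.2.fromSpec_primeIdealOf _)⟩
  obtain ⟨T, hT, hyT, h1, h2⟩ := h y hy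
  have e0 : ∀ e, (𝟙 X' : X' ⟶ X').appLE W.1 T.1 e = X'.presheaf.map (homOfLE hT).op := fun e => by
    simp [Scheme.Hom.appLE]; exact Category.id_comp _
  refine ⟨_, inferInstance, (X'.presheaf.map (homOfLE hT).op).hom, ?_, ⟨T.2.primeIdealOf ⟨y, hyT⟩, ?_⟩, h1, ?_⟩
  · have h3 := (𝟙 X' : X' ⟶ X').flat_appLE W.2 T.2 (by simpa using hT)
    rw [e0] at h3
    exact h3
  · have h4 := IsAffineOpen.comap_primeIdealOf_appLE (f := 𝟙 X') W.1 W.2 T.1 T.2 (by simpa using hT) hyT
    rw [e0] at h4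
    exact h4
  · have h5 := E.map_ideal (U := T) (V := W) hT
    refine (Eq.trans h5 (le_antisymm h2 ((Ideal.span_singleton_le_iff_mem _).2 ?_)))
    rw [← h5]
    exact Ideal.mem_map_of_mem _ ht

variable (hb : BlowUp.IsBlowUp b 𝓘)
include hb

/-- The relative ampleness of the exceptional ideal. -/
theorem isRelAmple_exceptional (h𝓘 : BlowUp.IsFiniteTypeIdeal 𝓘) :
    RelAmple.IsRelAmple b (ClSub.idealMod (𝓘.comap b)) := by
  haveI := BlowUpProper.Basic.isProper hb h𝓘
  let E := 𝓘.comap b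
  have hE : BlowUp.IsEffCartierIdeal E := hb.1
  have hL := IdealMod.isInvertible_of_isEffCartierIdeal E hE
  refine isRelAmple_iff.mpr ⟨inferInstance, hL, fun V => ⟨b.isCompact_preimage V.2.isCompact, fun x hx => ?_⟩⟩
  let O : X'.Opens := b ⁻¹ᵁ V.1
  let A := Γ(X, V.1)
  let I : Ideal A := 𝓘.ideal V
  -- sections from elements of the centre
  have hsec : ∀ a ∈ I, ∃ s : Γ(ClSub.idealMod E, O), idealSect E O s = b.app V.1 a := by
    intro a ha
    refine IdealMod.exists_sect E O _ ?_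
    have h1 : 𝓘 ≤ (E.subschemeι ≫ b).ker := by
      have : 𝓘 ≤ E.map b := Scheme.IdealSheafData.le_map_iff_comap_le.2 le_rfl
      exact this
    have h2 : a ∈ (E.subschemeι ≫ b).ker.ideal V := h1 V ha
    rw [Scheme.Hom.ker_apply, RingHom.mem_ker] at h2
    exact h2
  -- a generator near `x`
  obtain ⟨Wx, hxW, hWx, ε, hε, hEε⟩ := EffCartier.exists_equation hE x O hx
  obtain ⟨a, ha, c, hc, hcq⟩ := AlgSp.CartierDesc.exists_candidate (b.appLE V.1 Wx.1 hWx).hom I hε
    ((Comap.ideal_comap 𝓘 b V Wx hWx).symm.trans hEε) (Wx.2.primeIdealOf ⟨x, hxW⟩).asIdeal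
  have hcx : x ∈ X'.basicOpen c := (AssSch.Stalk.mem_basicOpen_iff Wx.2 x hxW c).2 hcq
  obtain ⟨s, hs⟩ := hsec a ha
  let σ : Γ(CohB1.tensorPow (ClSub.idealMod E) (0 + 1), O) := pw (ClSub.idealMod E) s 1
  -- the locus in an affine chart
  have hlocW : ∀ (W : X'.affineOpens) (hW : W.1 ≤ O) (ε' : Γ(X', W.1)), ε' ∈ nonZeroDivisors Γ(X', W.1) →
      E.ideal W = Ideal.span {ε'} → ∀ f : Γ(X', W.1), b.appLE V.1 W.1 hW a = f * ε' →
      locus σ ⊓ W.1 = X'.basicOpen f := by
    intro W hW ε' hε' hE' f hf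
    obtain ⟨e, he, he'⟩ := IdealMod.exists_isFrame_of_equation E hε' hE'
    have hgen : IsGen (ClSub.idealMod E) W.1 (e 0) := by
      rw [isGen_iff_isFrame]
      convert he using 2 with i
      exact congrArg e (Subsingleton.elim 0 i)
    refine locus_inf hW (isGen_pw hgen 1) σ ?_
    have h3 : QCoh.res (ClSub.idealMod E) hW s = f • e 0 := by
      refine idealSect_injective E W.1 ?_
      rw [idealSect_smul, he', ← hf]
      refine (idealSect_map E (homOfLE hW) s).trans ?_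
      rw [hs]
      rfl
    show QCoh.res _ hW (pw (ClSub.idealMod E) s 1) = _
    rw [res_pw, h3, pw_smul, pow_one]
  refine ⟨0, σ, ?_, ?_⟩
  · have := hlocW Wx hWx ε hε hEε c hc
    have hx' : x ∈ locus σ ⊓ Wx.1 := by rw [this]; exact hcx
    exact hx'.1
  -- the locus is the affine chart
  let D : X'.Opens := locus σ
  have hDO : D ≤ O := locus_le σ
  have hDle : ∀ z : D.toScheme, b (D.ι z) ∈ Set.range V.2.fromSpec := fun z => by
    rw [V.2.range_fromSpec]; exact hDO z.2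
  let g : D.toScheme ⟶ Spec A := IsOpenImmersion.lift V.2.fromSpec (D.ι ≫ b) (by
    rintro _ ⟨z, rfl⟩
    exact hDle z)
  have hg : g ≫ V.2.fromSpec = D.ι ≫ b := IsOpenImmersion.lift_fac _ _ _
  have hgen : Gen (A := A) I a g := by
    intro W
    let W' : X'.affineOpens := ⟨D.ι ''ᵁ W.1, W.2.image_of_isOpenImmersion _⟩
    have hW'D : W'.1 ≤ D := by
      rintro _ ⟨z, -, rfl⟩
      exact z.2
    have e : W.1 ≤ (D.ι ≫ b) ⁻¹ᵁ V.1 := fun z _ => hDO z.2
    have hval : ∀ y : A, AffineChart.res W.1 (glob (A := A) g y) = D.ι.appLE W'.1 W.1 (D.ι.preimage_image_eq W.1).ge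
        (b.appLE V.1 W'.1 (hW'D.trans hDO) y) := fun y => by
      rw [res_glob (D.ι ≫ b) V.2 g hg W.1 e y, ← CommRingCat.comp_apply, Scheme.Hom.appLE_comp_appLE]
    have hbij : Function.Bijective (D.ι.appLE W'.1 W.1 (D.ι.preimage_image_eq W.1).ge).hom := by
      rw [← Scheme.Hom.appIso_hom']
      exact ConcreteCategory.bijective_of_isIso _
    obtain ⟨hnz, hspan⟩ : b.appLE V.1 W'.1 (hW'D.trans hDO) a ∈ nonZeroDivisors Γ(X', W'.1) ∧
        E.ideal W' ≤ Ideal.span {b.appLE V.1 W'.1 (hW'D.trans hDO) a} := by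
      have hσ : IsGen (CohB1.tensorPow (ClSub.idealMod E) (0 + 1)) W'.1
          (QCoh.res _ (hW'D.trans hDO) σ) := by
        have := (isGen_locus σ).restrict hW'D
        rwa [QCoh.res_res] at this
      have hloc : ∀ y ∈ W'.1, ∃ (T : X'.affineOpens) (hT : T.1 ≤ W'.1), y ∈ T.1 ∧
          b.appLE V.1 T.1 (hT.trans (hW'D.trans hDO)) a ∈ nonZeroDivisors Γ(X', T.1) ∧
          E.ideal T ≤ Ideal.span {b.appLE V.1 T.1 (hT.trans (hW'D.trans hDO)) a} := by
        intro y hy
        obtain ⟨T, hyT, hT, ε', hε', hE'⟩ := EffCartier.exists_equation hE y W'.1 hy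
        have hmem : b.appLE V.1 T.1 (hT.trans (hW'D.trans hDO)) a ∈ E.ideal T := by
          rw [Comap.ideal_comap 𝓘 b V T (hT.trans (hW'D.trans hDO))]
          exact Ideal.mem_map_of_mem _ ha
        obtain ⟨f, hf⟩ := Ideal.mem_span_singleton'.1 (hE' ▸ hmem)
        have h4 := hlocW T (hT.trans (hW'D.trans hDO)) ε' hε' hE' f hf.symm
        have hu : IsUnit f := by
          have h5 : T.1 ≤ X'.basicOpen f := fun z hz => by
            rw [← h4]; exact ⟨hW'D (hT hz), hz⟩
          have h6 : X'.basicOpen f = T.1 := le_antisymm (X'.basicOpen_le f) h5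
          exact RingedSpace.isUnit_of_isUnit_germ X'.toRingedSpace T.1 f fun z hz => (X'.mem_basicOpen f z hz).1 (h5 hz)
        refine ⟨T, hT, hyT, ?_, ?_⟩
        · rw [← hf]; exact mul_mem (IsUnit.mem_nonZeroDivisors hu) hε'
        · rw [hE', ← hf, Ideal.span_singleton_mul_left_unit hu]
      have hmem0 : b.appLE V.1 W'.1 (hW'D.trans hDO) a ∈ E.ideal W' := by
        rw [Comap.ideal_comap 𝓘 b V W' (hW'D.trans hDO)]
        exact Ideal.mem_map_of_mem _ ha
      have hres := gen_of_local E W' _ hmem0 fun y hy => by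
        obtain ⟨T, hT, hyT, h15, h16⟩ := hloc y hy
        refine ⟨T, hT, hyT, ?_, ?_⟩ <;> rw [← CommRingCat.comp_apply, Scheme.Hom.appLE_map] <;> assumption
      exact ⟨hres.1, hres.2.le⟩
    constructor
    · rw [hval]
      exact MulEquivClass.map_nonZeroDivisors (RingEquiv.ofBijective _ hbij) ▸
        Submonoid.mem_map_of_mem _ hnz
    · rw [Ideal.map_le_iff_le_comap]
      intro y hy
      rw [Ideal.mem_comap, RingHom.comp_apply, hval, hval]
      have h7 : b.appLE V.1 W'.1 (hW'D.trans hDO) y ∈ E.ideal W' := by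
        rw [Comap.ideal_comap 𝓘 b V W' (hW'D.trans hDO)]
        exact Ideal.mem_map_of_mem _ hy
      have h8 := Ideal.mem_map_of_mem (D.ι.appLE W'.1 W.1 (D.ι.preimage_image_eq W.1).ge).hom (hspan h7)
      rwa [Ideal.map_span, Set.image_singleton] at h8
  obtain ⟨m, hm, -⟩ := existsUnique_lift (A := A) I a hgen
  let h : Spec (CommRingCat.of (Chart I a)) ⟶ X := toBase I a ≫ V.2.fromSpec
  have hch : (Existence.centre (A := A) I).comap (toBase I a) = 𝓘.comap h :=
    centre_comap_eq h V (toBase I a) rfl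
  have hcart : BlowUp.IsEffCartierIdeal (𝓘.comap h) :=
    hch ▸ Existence.effCartier_of_gen I ha (gen_toBase I a ha)
  obtain ⟨n, hn, -⟩ := hb.2 _ h hcart
  have hnO : ∀ z, b (n z) ∈ V.1 := fun z => by
    rw [← Scheme.Hom.comp_apply, hn]
    have : V.2.fromSpec (toBase I a z) ∈ Set.range V.2.fromSpec := ⟨_, rfl⟩
    rwa [V.2.range_fromSpec] at this
  have hnD : Set.range n ⊆ Set.range D.ι := by
    rintro _ ⟨z, rfl⟩
    rw [Scheme.Opens.range_ι]
    obtain ⟨W, hzW, hW, ε', hε', hE'⟩ := EffCartier.exists_equation hE (n z) O (hnO z)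
    have hmem : b.appLE V.1 W.1 hW a ∈ E.ideal W := by
      rw [Comap.ideal_comap 𝓘 b V W hW]
      exact Ideal.mem_map_of_mem _ ha
    obtain ⟨f, hf⟩ := Ideal.mem_span_singleton'.1 (hE' ▸ hmem)
    obtain ⟨Z, hzZ, hZ⟩ := Comap.exists_affine_le z (n ⁻¹ᵁ W.1) hzW
    have hZh : Z.1 ≤ (n ≫ b) ⁻¹ᵁ V.1 := fun w _ => hnO w
    obtain ⟨hnz, hle⟩ := gen_toBase I a ha Z
    have hZh' : Z.1 ≤ h ⁻¹ᵁ V.1 := by rw [← hn]; exact hZh
    have hval : ∀ y : A, AffineChart.res Z.1 (glob (A := A) (toBase I a) y) =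
        n.appLE W.1 Z.1 hZ (b.appLE V.1 W.1 hW y) := fun y => by
      rw [res_glob h V.2 (toBase I a) rfl Z.1 hZh' y, ← CommRingCat.comp_apply,
        Scheme.Hom.appLE_comp_appLE]
      simp only [hn]
    let ν := (n.appLE W.1 Z.1 hZ).hom
    have hεmem : ν ε' ∈ Ideal.span {ν (f * ε')} := by
      have h9 : (E.comap n).ideal Z = I.map ((AffineChart.res Z.1).comp (glob (A := A) (toBase I a))) := by
        rw [← Scheme.IdealSheafData.comap_comp, hn, ← hch, Existence.centre_comap]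
      have h10 : ν ε' ∈ (E.comap n).ideal Z := by
        rw [Comap.ideal_comap E n W Z hZ, hE']
        exact Ideal.mem_map_of_mem _ (Ideal.mem_span_singleton_self _)
      rw [h9] at h10
      have h11 := hle h10
      rwa [hval, ← hf] at h11
    rw [hval, ← hf] at hnz
    change ν (f * ε') ∈ _ at hnz
    obtain ⟨w, hw⟩ := Ideal.mem_span_singleton'.1 hεmem
    have hu : IsUnit (ν f) := by
      refine IsUnit.of_mul_eq_one w ?_
      refine (mul_cancel_right_mem_nonZeroDivisors hnz).1 ?_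
      rw [one_mul, mul_assoc (ν f), hw, ← map_mul]
    have hzf : z ∈ (Spec (CommRingCat.of (Chart I a))).basicOpen (ν f) := by
      rw [Scheme.basicOpen_of_isUnit _ hu]; exact hzZ
    rw [Scheme.basicOpen_appLE] at hzf
    have h12 : n z ∈ X'.basicOpen f := hzf.2
    rw [← hlocW W hW ε' hε' hE' f hf.symm] at h12
    exact h12.1
  let n' := IsOpenImmersion.lift D.ι n hnD
  have hn' : n' ≫ D.ι = n := IsOpenImmersion.lift_fac _ _ _
  have h13 : n' ≫ m = 𝟙 _ := by
    refine (existsUnique_lift (A := A) I a (gen_toBase I a ha)).unique ?_ (Category.id_comp _)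
    rw [Category.assoc, hm, ← cancel_mono V.2.fromSpec, Category.assoc, hg, reassoc_of% hn', hn]
  have h14 : m ≫ n' = 𝟙 _ := by
    rw [← cancel_mono D.ι, Category.assoc, hn', Category.id_comp]
    refine Basic.hom_ext hb ?_ ?_
    · rw [Category.assoc, hn]
      show BlowUp.IsEffCartierIdeal (𝓘.comap (m ≫ toBase I a ≫ V.2.fromSpec))
      rw [reassoc_of% hm, hg, Scheme.IdealSheafData.comap_comp]
      exact EffCartier.comap_of_flat D.ι hE
    · rw [Category.assoc, hn]
      show m ≫ toBase I a ≫ V.2.fromSpec = _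
      rw [reassoc_of% hm, hg]
  haveI : IsIso m := ⟨n', h14, h13⟩
  exact IsAffine.of_isIso m

end Groth.Agent.BlowUp.RelAmple
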