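import Groth.Agent.BlowUp.Basic

/-!
# Blowing up is local on the base
-/

set_option autoImplicit false

universe u

open CategoryTheory CategoryTheory.Limits AlgebraicGeometry TopologicalSpace
open Groth.Agent.IdealSh

namespace Groth.Agent.BlowUp.Local

variable {X X₁ X' P : Scheme.{u}}

/-- A flat base change of a blow-up, in any chosen pullback square. -/
lemma of_isPullback {b : X' ⟶ X} {π : P ⟶ X₁} {q : P ⟶ X'} {g : X₁ ⟶ X} [Flat g]
    {𝓘 : X.IdealSheafData} (hb : BlowUp.IsBlowUp b 𝓘) (h : IsPullback π q g b) :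
    BlowUp.IsBlowUp π (𝓘.comap g) := by
  have := Basic.isBlowUp_iso_comp (Basic.flat_baseChange g hb) h.isoPullback
  rwa [IsPullback.isoPullback_hom_fst] at this

lemma restrict {b : X' ⟶ X} {𝓘 : X.IdealSheafData} (hb : BlowUp.IsBlowUp b 𝓘) (U : X.Opens) :
    BlowUp.IsBlowUp (b ∣_ U) (𝓘.comap U.ι) :=
  of_isPullback hb (isPullback_morphismRestrict b U)

/-- Transport along an isomorphism of the base. -/
lemma comp_iso {b : X' ⟶ X₁} (e : X₁ ≅ X) {𝓘 : X.IdealSheafData}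
    (hb : BlowUp.IsBlowUp b (𝓘.comap e.hom)) : BlowUp.IsBlowUp (b ≫ e.hom) 𝓘 := by
  constructor
  · rw [Scheme.IdealSheafData.comap_comp]
    exact hb.1
  · intro Y g hg
    have h1 : (𝓘.comap e.hom).comap (g ≫ e.inv) = 𝓘.comap g := by
      rw [← Scheme.IdealSheafData.comap_comp, Category.assoc, Iso.inv_hom_id, Category.comp_id]
    obtain ⟨h, hh, huniq⟩ := hb.2 Y (g ≫ e.inv) (h1 ▸ hg)
    refine ⟨h, ?_, fun l hl => huniq l ?_⟩
    · change h ≫ b ≫ e.hom = g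
      rw [← Category.assoc, hh, Category.assoc, Iso.inv_hom_id, Category.comp_id]
    · change l ≫ b = g ≫ e.inv
      rw [← show l ≫ b ≫ e.hom = g from hl]
      simp

/-- A morphism which is a blow-up over every member of an open cover is a blow-up. -/
theorem of_isOpenCover {b : X' ⟶ X} {𝓘 : X.IdealSheafData} {ι : Type u} (U : ι → X.Opens)
    (hU : ⨆ i, U i = ⊤) (h : ∀ i, BlowUp.IsBlowUp (b ∣_ U i) (𝓘.comap (U i).ι)) :
    BlowUp.IsBlowUp b 𝓘 := by
  refine ⟨EffCartier.of_openCover fun x => ?_, fun Y g hg => ?_⟩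
  · obtain ⟨i, hi⟩ := Opens.mem_iSup.mp (hU.ge (trivial : b x ∈ (⊤ : X.Opens)))
    refine ⟨b ⁻¹ᵁ U i, hi, ?_⟩
    rw [← Scheme.IdealSheafData.comap_comp, ← morphismRestrict_ι, Scheme.IdealSheafData.comap_comp]
    exact (h i).1
  have hpre : ∀ {Z : Scheme.{u}} (f : Z ⟶ X) (z : Z), ∃ i, z ∈ f ⁻¹ᵁ U i := fun f z => by
    have hz : f z ∈ ⨆ i, U i := by rw [hU]; trivial
    obtain ⟨i, hi⟩ := Opens.mem_iSup.mp hz
    exact ⟨i, hi⟩
  have hcart : ∀ i, BlowUp.IsEffCartierIdeal ((𝓘.comap (U i).ι).comap (g ∣_ U i)) := fun i => by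
    rw [← Scheme.IdealSheafData.comap_comp, morphismRestrict_ι, Scheme.IdealSheafData.comap_comp]
    exact EffCartier.comap_of_flat _ hg
  have uniq : ∀ (Z : Scheme.{u}) (f : Z ⟶ X), BlowUp.IsEffCartierIdeal (𝓘.comap f) →
      ∀ k k' : Z ⟶ X', k ≫ b = f → k' ≫ b = f → k = k' := by
    intro Z f hf k k' hk hk'
    refine (Z.openCoverOfIsOpenCover (fun i => f ⁻¹ᵁ U i)
      (.mk (top_le_iff.mp fun z _ => Opens.mem_iSup.mpr (hpre f z)))).hom_ext _ _ fun i => ?_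
    have sq := isPullback_morphismRestrict b (U i)
    have e1 : (f ∣_ U i) ≫ (U i).ι = ((f ⁻¹ᵁ U i).ι ≫ k) ≫ b := by
      rw [morphismRestrict_ι, Category.assoc, hk]
    have e2 : (f ∣_ U i) ≫ (U i).ι = ((f ⁻¹ᵁ U i).ι ≫ k') ≫ b := by
      rw [morphismRestrict_ι, Category.assoc, hk']
    have he : BlowUp.IsEffCartierIdeal ((𝓘.comap (U i).ι).comap (f ∣_ U i)) := by
      rw [← Scheme.IdealSheafData.comap_comp, morphismRestrict_ι,
        Scheme.IdealSheafData.comap_comp]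
      exact EffCartier.comap_of_flat _ hf
    have h3 := ((h i).2 _ _ he).unique (sq.lift_fst _ _ e1) (sq.lift_fst _ _ e2)
    have h4 := congrArg (· ≫ (b ⁻¹ᵁ U i).ι) h3
    simp only [IsPullback.lift_snd] at h4
    exact h4
  choose k hk hk' using fun i => (h i).2 _ _ (hcart i)
  let 𝒰 := Y.openCoverOfIsOpenCover (fun i => g ⁻¹ᵁ U i)
    (.mk (top_le_iff.mp fun z _ => Opens.mem_iSup.mpr (hpre g z)))
  let k' : ∀ i, 𝒰.X i ⟶ X' := fun i => k i ≫ (b ⁻¹ᵁ U i).ι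
  have hk2 : ∀ i, k' i ≫ b = 𝒰.f i ≫ g := fun i => by
    change (k i ≫ _) ≫ b = (g ⁻¹ᵁ U i).ι ≫ g
    rw [Category.assoc, ← morphismRestrict_ι, ← Category.assoc, hk i, morphismRestrict_ι]
  have hcomp : ∀ i j, pullback.fst (𝒰.f i) (𝒰.f j) ≫ k' i =
      pullback.snd (𝒰.f i) (𝒰.f j) ≫ k' j := by
    intro i j
    refine uniq _ (pullback.fst (𝒰.f i) (𝒰.f j) ≫ 𝒰.f i ≫ g) ?_ _ _ ?_ ?_
    · rw [← Category.assoc, Scheme.IdealSheafData.comap_comp]
      exact EffCartier.comap_of_flat _ hg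
    · rw [Category.assoc, hk2]
    · rw [Category.assoc, hk2, pullback.condition_assoc]
  have hglue : 𝒰.glueMorphisms k' hcomp ≫ b = g := by
    refine 𝒰.hom_ext _ _ fun i => ?_
    rw [Scheme.Cover.ι_glueMorphisms_assoc]
    exact hk2 i
  exact ⟨_, hglue, fun l hl => uniq Y g hg l _ hl hglue⟩

end Groth.Agent.BlowUp.Local
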