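import Groth.Agent.BlowUp.Existence
import Groth.Agent.BlowUp.Local
import Mathlib.AlgebraicGeometry.RelativeGluing

/-!
# Blow-ups exist
-/

set_option autoImplicit false

universe u

open CategoryTheory CategoryTheory.Limits AlgebraicGeometry TopologicalSpace
open Groth.Agent.IdealSh

namespace Groth.Agent.BlowUp.Glue

theorem exists_affine {A : Type u} [CommRing A] (𝓙 : (Spec (CommRingCat.of A)).IdealSheafData) :
    ∃ (P : Scheme.{u}) (b : P ⟶ Spec (CommRingCat.of A)), BlowUp.IsBlowUp b 𝓙 := by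
  let E := Scheme.ΓSpecIso (CommRingCat.of A)
  let I : Ideal A := (𝓙.ideal ⟨⊤, isAffineOpen_top _⟩).map E.hom.hom
  have h1 : I.map E.inv.hom = 𝓙.ideal ⟨⊤, isAffineOpen_top _⟩ := by
    refine (Ideal.map_map E.hom.hom E.inv.hom).trans ?_
    rw [← CommRingCat.hom_comp, Iso.hom_inv_id]
    exact Ideal.map_id _
  have e : Existence.centre I = 𝓙 := by
    refine Scheme.IdealSheafData.ext_of_isAffine ?_
    rw [Existence.centre, Scheme.IdealSheafData.ofIdealTop_ideal]
    refine Eq.trans ?_ h1
    refine (congrArg (fun φ => Ideal.map φ (I.map E.inv.hom)) ?_).trans (Ideal.map_id _)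
    change ((Spec (CommRingCat.of A)).presheaf.map (homOfLE _).op).hom = _
    rw [Subsingleton.elim (homOfLE _).op (𝟙 _), CategoryTheory.Functor.map_id]
    rfl
  exact ⟨_, _, e ▸ Existence.isBlowUp_proj I⟩

theorem exists_affineOpen {X : Scheme.{u}} (𝓘 : X.IdealSheafData) (U : X.affineOpens) :
    ∃ (P : Scheme.{u}) (b : P ⟶ U.1.toScheme), BlowUp.IsBlowUp b (𝓘.comap U.1.ι) := by
  obtain ⟨P, b, hb⟩ := exists_affine ((𝓘.comap U.1.ι).comap U.2.isoSpec.inv)
  exact ⟨P, _, Local.comp_iso U.2.isoSpec.symm hb⟩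

instance isThin_index (X : Scheme.{u}) : Quiver.IsThin X.directedAffineCover.I₀ :=
  inferInstanceAs (Quiver.IsThin X.affineOpens)

instance small_index (X : Scheme.{u}) : Small.{u} X.directedAffineCover.I₀ :=
  inferInstanceAs (Small.{u} X.affineOpens)

lemma exists_of_gluingData {X : Scheme.{u}} {𝓘 : X.IdealSheafData}
    (d : Scheme.Cover.RelativeGluingData X.directedAffineCover)
    (h : ∀ U : X.affineOpens, BlowUp.IsBlowUp (d.natTrans.app U) (𝓘.comap U.1.ι)) :
    ∃ (X' : Scheme.{u}) (b : X' ⟶ X), BlowUp.IsBlowUp b 𝓘 := by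
  refine ⟨d.glued, d.toBase, Local.of_isOpenCover (fun U : X.affineOpens => U.1)
    (iSup_affineOpens_eq_top X) fun U => ?_⟩
  have sq := d.isPullback_natTrans_ι_toBase U
  let e := (isPullback_morphismRestrict d.toBase U.1).isoIsPullback _ _ sq
  have he : e.hom ≫ d.natTrans.app U = d.toBase ∣_ U.1 :=
    IsPullback.isoIsPullback_hom_fst _ _ _ _
  rw [← he]
  exact Basic.isBlowUp_iso_comp (h U) e

theorem exists_isBlowUp (X : Scheme.{u}) (𝓘 : X.IdealSheafData) :
    ∃ (X' : Scheme.{u}) (b : X' ⟶ X), BlowUp.IsBlowUp b 𝓘 := by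
  choose P b hb using exists_affineOpen 𝓘
  have hcart : ∀ (U V : X.affineOpens) (h : U ≤ V),
      BlowUp.IsEffCartierIdeal ((𝓘.comap V.1.ι).comap (b U ≫ X.homOfLE h)) := by
    intro U V h
    rw [← Scheme.IdealSheafData.comap_comp, Category.assoc, Scheme.homOfLE_ι,
      Scheme.IdealSheafData.comap_comp]
    exact (hb U).1
  choose m hm hm' using fun (U V : X.affineOpens) (h : U ≤ V) =>
    (hb V).2 _ _ (hcart U V h)
  let F : X.affineOpens ⥤ Scheme.{u} :=
    { obj := P
      map := fun {U V} f => m U V (leOfHom f)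
      map_id := fun U => (hm' U U _ (𝟙 (P U)) (by simp)).symm
      map_comp := fun {U V W} f g => (hm' U W _ _ (by
        beta_reduce
        rw [Category.assoc, hm V W (leOfHom g), ← Category.assoc, hm U V (leOfHom f),
          Category.assoc, Scheme.homOfLE_homOfLE])).symm }
  let τ : F ⟶ X.directedAffineCover.functorOfLocallyDirected :=
    { app := fun U => b U
      naturality := fun U V f => by
        refine (hm U V (leOfHom f)).trans ?_
        rfl }
  have heq : τ.Equifibered := by
    intro U V f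
    have h1 : IsPullback (b U) (m U V (leOfHom f)) (X.homOfLE (leOfHom f)) (b V) := by
      have h2 : BlowUp.IsBlowUp (pullback.fst (X.homOfLE (leOfHom f : U.1 ≤ V.1)) (b V))
          (𝓘.comap U.1.ι) := by
        have := Basic.flat_baseChange (X.homOfLE (leOfHom f : U.1 ≤ V.1)) (hb V)
        rwa [← Scheme.IdealSheafData.comap_comp, Scheme.homOfLE_ι] at this
      obtain ⟨e, he⟩ := Basic.exists_iso h2 (hb U)
      refine IsPullback.of_iso_pullback ⟨(hm U V (leOfHom f)).symm⟩ e he ?_
      exact hm' U V _ _ (by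
        beta_reduce
        rw [Category.assoc, ← pullback.condition, ← Category.assoc, he])
    exact h1.flip
  exact exists_of_gluingData ⟨F, τ, heq⟩ hb

end Groth.Agent.BlowUp.Glue
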