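import Groth.Agent.BlowUp.AffineChart
import Groth.Prelude.Def_Rees
import Groth.Prelude.Def_ega3

/-!
# The standard charts of `Proj` of a Rees algebra
-/

set_option autoImplicit false
set_option maxHeartbeats 400000

universe u

open CategoryTheory AlgebraicGeometry TopologicalSpace Polynomial
open Groth.Agent.BlowUp.AffineChart

namespace Groth.Agent.BlowUp.ProjRees

variable {A : Type u} [CommRing A] (I : Ideal A) (a : A)

/-- The element `c Xⁿ` of the Rees algebra. -/
noncomputable def mon (n : ℕ) {c : A} (hc : c ∈ I ^ n) : reesAlgebra I :=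
  ⟨monomial n c, reesAlgebra.monomial_mem.mpr hc⟩

lemma mon_mem_deg (n : ℕ) {c : A} (hc : c ∈ I ^ n) : mon I n hc ∈ Rees.deg (reesAlgebra I) n := by
  intro m hm
  change (monomial n c).coeff m = 0
  rw [coeff_monomial, if_neg]
  exact fun h => hm h.symm

/-- The element `aX` of the Rees algebra. -/
noncomputable abbrev gen {a : A} (ha : a ∈ I) : reesAlgebra I :=
  mon I 1 (by rwa [pow_one] : a ∈ I ^ 1)

lemma eq_mon {n : ℕ} {x : reesAlgebra I} (hx : x ∈ Rees.deg (reesAlgebra I) n) :
    ∃ (c : A) (hc : c ∈ I ^ n), x = mon I n hc := by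
  refine ⟨(x : A[X]).coeff n, x.2 n, Subtype.ext <| Polynomial.ext fun m => ?_⟩
  change _ = (monomial n ((x : A[X]).coeff n)).coeff m
  rw [coeff_monomial]
  split_ifs with h
  · rw [h]
  · exact hx m (Ne.symm h)

lemma mon_mem_span (n : ℕ) {c : A} (hc : c ∈ I ^ (n + 1)) :
    mon I (n + 1) hc ∈ Ideal.span (Set.range fun a : I => gen I a.2) := by
  have key : ∀ c ∈ I ^ n * I, ∃ hc : c ∈ I ^ (n + 1),
      mon I (n + 1) hc ∈ Ideal.span (Set.range fun a : I => gen I a.2) := by
    intro c hc
    refine Submodule.mul_induction_on hc (fun d hd x hx => ?_) fun d e hd he => ?_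
    · have h : d * x ∈ I ^ (n + 1) := by rw [pow_succ]; exact Ideal.mul_mem_mul hd hx
      refine ⟨h, ?_⟩
      have : mon I (n + 1) h = mon I n hd * gen I hx :=
        Subtype.ext (monomial_mul_monomial n 1 d x).symm
      rw [this]
      exact Ideal.mul_mem_left _ _ (Ideal.subset_span ⟨⟨x, hx⟩, rfl⟩)
    · obtain ⟨hd₁, hd₂⟩ := hd
      obtain ⟨he₁, he₂⟩ := he
      refine ⟨add_mem hd₁ he₁, ?_⟩
      have : mon I (n + 1) (add_mem hd₁ he₁) = mon I (n + 1) hd₁ + mon I (n + 1) he₁ :=
        Subtype.ext (map_add (monomial (n + 1)) d e)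
      rw [this]
      exact add_mem hd₂ he₂
  exact (key c (by rwa [← pow_succ])).2

lemma irrelevant_le :
    (HomogeneousIdeal.irrelevant (Rees.deg (reesAlgebra I))).toIdeal ≤
      Ideal.span (Set.range fun a : I => gen I a.2) := by
  classical
  intro x hx
  rw [← DirectSum.sum_support_decompose (Rees.deg (reesAlgebra I)) x]
  refine Ideal.sum_mem _ fun i _ => ?_
  obtain ⟨c, hc, e⟩ := eq_mon I (DirectSum.decompose (Rees.deg (reesAlgebra I)) x i).2
  rcases i with _ | n
  · have h0 : GradedRing.proj (Rees.deg (reesAlgebra I)) 0 x = 0 := hx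
    rw [GradedRing.proj_apply] at h0
    rw [h0]
    exact zero_mem _
  · rw [e]
    exact mon_mem_span I n hc

/-- Evaluation at `X = 1/a`. -/
noncomputable def ev : reesAlgebra I →+* Localization.Away a :=
  ((aeval (IsLocalization.Away.invSelf (S := Localization.Away a) a)).comp
    (reesAlgebra I).val).toRingHom

lemma ev_mon (n : ℕ) {c : A} (hc : c ∈ I ^ n) :
    ev I a (mon I n hc) = IsLocalization.mk' (Localization.Away a) c
      (⟨a ^ n, n, rfl⟩ : Submonoid.powers a) := by
  rw [IsLocalization.eq_mk'_iff_mul_eq]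
  change aeval (IsLocalization.Away.invSelf a) (monomial n c) *
    algebraMap A (Localization.Away a) (a ^ n) = algebraMap A _ c
  rw [aeval_monomial, map_pow, mul_assoc, ← mul_pow, mul_comm (IsLocalization.Away.invSelf a),
    IsLocalization.Away.mul_invSelf, one_pow, mul_one]

variable {a}

lemma isUnit_ev_gen (ha : a ∈ I) : IsUnit (ev I a (gen I ha)) := by
  have e : IsLocalization.mk' (Localization.Away a) a
      (⟨a ^ 1, 1, rfl⟩ : Submonoid.powers a) = 1 := by
    rw [IsLocalization.mk'_eq_iff_eq_mul, one_mul]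
    simp
  rw [gen, ev_mon, e]
  exact isUnit_one

/-- `D₊(aX)` as the degree-zero fractions. -/
abbrev AwayGen (ha : a ∈ I) : Type u :=
  HomogeneousLocalization.Away (Rees.deg (reesAlgebra I)) (gen I ha)

/-- The canonical map to `A_a`. -/
noncomputable def toLoc (ha : a ∈ I) : AwayGen I ha →+* Localization.Away a :=
  (IsLocalization.Away.lift (S := Localization.Away (gen I ha)) (gen I ha)
    (isUnit_ev_gen I ha)).comp
      (algebraMap (AwayGen I ha) (Localization.Away (gen I ha)))

lemma toLoc_mk (ha : a ∈ I) (n : ℕ) {c : A} (hc : c ∈ I ^ n)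
    (h : mon I n hc ∈ Rees.deg (reesAlgebra I) (n • 1)) :
    toLoc I ha (HomogeneousLocalization.Away.mk _ (mon_mem_deg I 1 _) n (mon I n hc) h) =
      IsLocalization.mk' (Localization.Away a) c (⟨a ^ n, n, rfl⟩ : Submonoid.powers a) := by
  rw [← ev_mon I a n hc, toLoc, RingHom.comp_apply, HomogeneousLocalization.algebraMap_apply,
    HomogeneousLocalization.Away.val_mk, Localization.mk_eq_mk', IsLocalization.Away.lift,
    IsLocalization.lift_mk'_spec, map_pow]
  have e : ev I a (gen I ha) = 1 := by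
    rw [gen, ev_mon, IsLocalization.mk'_eq_iff_eq_mul, one_mul]
    simp
  rw [e, one_pow, one_mul]

lemma toLoc_injective (ha : a ∈ I) : Function.Injective (toLoc I ha) := by
  rw [injective_iff_map_eq_zero]
  intro x hx
  obtain ⟨n, s, hs, rfl⟩ := HomogeneousLocalization.Away.mk_surjective _ (mon_mem_deg I 1 _) x
  obtain ⟨c, hc, rfl⟩ := eq_mon I (by simpa using hs : s ∈ Rees.deg (reesAlgebra I) n)
  rw [toLoc_mk, IsLocalization.mk'_eq_zero_iff] at hx
  obtain ⟨⟨_, k, rfl⟩, hk⟩ := hx
  apply HomogeneousLocalization.val_injective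
  rw [HomogeneousLocalization.Away.val_mk, HomogeneousLocalization.val_zero,
    Localization.mk_eq_mk', IsLocalization.mk'_eq_zero_iff]
  refine ⟨⟨gen I ha ^ k, k, rfl⟩, Subtype.ext ?_⟩
  change ((monomial 1 a) ^ k * monomial n c : A[X]) = 0
  rw [monomial_pow, monomial_mul_monomial]
  rw [show a ^ k * c = 0 from hk, map_zero]

lemma toLoc_mem (ha : a ∈ I) (x : AwayGen I ha) : toLoc I ha x ∈ BlowUp.affineAlgebra A I a := by
  obtain ⟨n, s, hs, rfl⟩ := HomogeneousLocalization.Away.mk_surjective _ (mon_mem_deg I 1 _) x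
  obtain ⟨c, hc, rfl⟩ := eq_mon I (by simpa using hs : s ∈ Rees.deg (reesAlgebra I) n)
  rw [toLoc_mk]
  exact pow_induction_mem I a hc

/-- The degree-zero fractions as the affine blow-up algebra. -/
noncomputable def toChart (ha : a ∈ I) : AwayGen I ha →+* Chart I a :=
  (toLoc I ha).codRestrict (BlowUp.affineAlgebra A I a) (toLoc_mem I ha)

/-- The structure map of the degree-zero fractions. -/
noncomputable def fromBase (ha : a ∈ I) : A →+* AwayGen I ha :=
  (HomogeneousLocalization.fromZeroRingHom (Rees.deg (reesAlgebra I)) _).comp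
    (algebraMap A (Rees.deg (reesAlgebra I) 0))

lemma toLoc_comp_fromBase (ha : a ∈ I) :
    (toLoc I ha).comp (fromBase I ha) = algebraMap A (Localization.Away a) := by
  ext r
  have h0 : r ∈ I ^ 0 := by simp
  have e : fromBase I ha r = HomogeneousLocalization.Away.mk _ (mon_mem_deg I 1 _) 0
      (mon I 0 h0) (mon_mem_deg I 0 h0) := by
    apply HomogeneousLocalization.val_injective
    rw [HomogeneousLocalization.Away.val_mk]
    refine Eq.trans (HomogeneousLocalization.val_mk _) ?_
    congr 1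
  rw [RingHom.comp_apply, e, toLoc_mk, IsLocalization.mk'_eq_iff_eq_mul]
  simp

lemma toChart_comp_fromBase (ha : a ∈ I) :
    (toChart I ha).comp (fromBase I ha) = algebraMap A (Chart I a) :=
  RingHom.ext fun r => Subtype.ext (RingHom.congr_fun (toLoc_comp_fromBase I ha) r)

lemma toChart_bijective (ha : a ∈ I) : Function.Bijective (toChart I ha) := by
  refine ⟨fun x y h => toLoc_injective I ha (congrArg Subtype.val h), fun y => ?_⟩
  suffices h : (y : Localization.Away a) ∈ Set.range (toLoc I ha) by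
    obtain ⟨x, hx⟩ := h
    exact ⟨x, Subtype.ext hx⟩
  refine Algebra.adjoin_induction (p := fun z _ => z ∈ Set.range (toLoc I ha)) ?_ ?_ ?_ ?_ y.2
  · rintro _ ⟨x, hx, rfl⟩
    refine ⟨HomogeneousLocalization.Away.mk _ (mon_mem_deg I 1 _) 1 (gen I hx)
      (mon_mem_deg I 1 _), ?_⟩
    rw [toLoc_mk]
    congr 1
    exact Subtype.ext (pow_one a)
  · exact fun r => ⟨fromBase I ha r, RingHom.congr_fun (toLoc_comp_fromBase I ha) r⟩
  · rintro _ _ _ _ ⟨x, rfl⟩ ⟨y, rfl⟩
    exact ⟨x + y, map_add _ _ _⟩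
  · rintro _ _ _ _ ⟨x, rfl⟩ ⟨y, rfl⟩
    exact ⟨x * y, map_mul _ _ _⟩

instance isIso_spec_toChart (ha : a ∈ I) :
    IsIso (Spec.map (CommRingCat.ofHom (toChart I ha))) := by
  have : IsIso (CommRingCat.ofHom (toChart I ha)) :=
    (ConcreteCategory.isIso_iff_bijective _).mpr (toChart_bijective I ha)
  infer_instance

/-- The chart `Spec A[I/a] ⟶ Proj R(I)`. -/
noncomputable def chart (ha : a ∈ I) :
    Spec (CommRingCat.of (Chart I a)) ⟶ Proj (Rees.deg (reesAlgebra I)) :=
  Spec.map (CommRingCat.ofHom (toChart I ha)) ≫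
    Proj.awayι (Rees.deg (reesAlgebra I)) (gen I ha) (mon_mem_deg I 1 _) Nat.one_pos

instance isOpenImmersion_chart (ha : a ∈ I) : IsOpenImmersion (chart I ha) :=
  inferInstanceAs (IsOpenImmersion (_ ≫ _))

lemma chart_over (ha : a ∈ I) :
    chart I ha ≫ (Proj (Rees.deg (reesAlgebra I)) ↘ Spec (CommRingCat.of A)) = toBase I a := by
  change (_ ≫ _) ≫ (Proj.toSpecZero _ ≫ _) = _
  rw [Category.assoc, Proj.awayι_toSpecZero_assoc, ← Spec.map_comp, ← Spec.map_comp, toBase,
    ← toChart_comp_fromBase I ha]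
  rfl

lemma opensRange_chart (ha : a ∈ I) :
    (chart I ha).opensRange = Proj.basicOpen (Rees.deg (reesAlgebra I)) (gen I ha) :=
  (Scheme.Hom.opensRange_comp_of_isIso _ _).trans (Proj.opensRange_awayι _ _ _ _)

lemma iSup_opensRange_chart : ⨆ a : I, (chart I a.2).opensRange = ⊤ := by
  simp only [opensRange_chart]
  exact Proj.iSup_basicOpen_eq_top _ _ (irrelevant_le I)

lemma chart_preimage_opensRange {c : A} (hc : c ∈ I) (ha : a ∈ I) :
    chart I hc ⁻¹ᵁ (chart I ha).opensRange = PrimeSpectrum.basicOpen (div I c ha) := by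
  rw [opensRange_chart, chart, Scheme.Hom.comp_preimage,
    Proj.awayι_preimage_basicOpen (Rees.deg (reesAlgebra I)) _ _ (mon_mem_deg I 1 _) Nat.one_pos]
  refine TopologicalSpace.Opens.ext (Set.ext fun p => ?_)
  change toChart I hc _ ∉ p.asIdeal ↔ div I c ha ∉ p.asIdeal
  have e : toChart I hc (HomogeneousLocalization.Away.isLocalizationElem
      (mon_mem_deg I 1 _ : gen I hc ∈ _) (mon_mem_deg I 1 _ : gen I ha ∈ _)) = div I c ha := by
    refine Subtype.ext ?_
    have h1 : (gen I ha) ^ 1 = gen I ha := pow_one _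
    change toLoc I hc _ = _
    simp only [HomogeneousLocalization.Away.isLocalizationElem, h1]
    rw [toLoc_mk]
    change _ = IsLocalization.mk' _ _ _
    congr 1
    exact Subtype.ext (pow_one c)
  rw [e]

end Groth.Agent.BlowUp.ProjRees
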