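import Groth.Agent.BlowUp.AffineChart
import Groth.Agent.BlowUp.ProjRees

/-!
# The blow-up of an affine scheme
-/

set_option autoImplicit false
set_option maxHeartbeats 400000

universe u

open CategoryTheory CategoryTheory.Limits AlgebraicGeometry TopologicalSpace
open Groth.Agent.IdealSh Groth.Agent.BlowUp.AffineChart

namespace Groth.Agent.BlowUp.Existence

variable {A : Type u} [CommRing A] (I : Ideal A) {Y : Scheme.{u}}

/-- The ideal sheaf of `I` on `Spec A`. -/
noncomputable abbrev centre : (Spec (CommRingCat.of A)).IdealSheafData :=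
  Scheme.IdealSheafData.ofIdealTop (I.map (Scheme.ΓSpecIso (CommRingCat.of A)).inv.hom)

lemma centre_comap (g : Y ⟶ Spec (CommRingCat.of A)) (V : Y.affineOpens) :
    ((centre I).comap g).ideal V = I.map ((res V.1).comp (glob g)) :=
  AffineChart.ideal_comap I g V

lemma effCartier_of_gen {a : A} (ha : a ∈ I) {g : Y ⟶ Spec (CommRingCat.of A)}
    (h : Gen I a g) : BlowUp.IsEffCartierIdeal ((centre I).comap g) := by
  intro y
  obtain ⟨V, hyV, -⟩ := Comap.exists_affine_le y ⊤ trivial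
  refine ⟨V, hyV, _, (h V).1, ?_⟩
  rw [centre_comap]
  refine le_antisymm (h V).2 ?_
  rw [Ideal.span_le, Set.singleton_subset_iff]
  exact Ideal.mem_map_of_mem _ ha

lemma res_glob_ι (W : Y.Opens) (g : Y ⟶ Spec (CommRingCat.of A)) (V : W.toScheme.Opens) (x : A) :
    res V (glob (W.ι ≫ g) x) = res (W.ι ''ᵁ V) (glob g x) := by
  rw [glob_comp, RingHom.comp_apply, Scheme.Opens.ι_appTop]
  change (Y.presheaf.map _).hom ((Y.presheaf.map _).hom (glob g x)) = _
  rw [← CommRingCat.comp_apply, ← Functor.map_comp]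
  rfl

lemma gen_ι_of_gen {a : A} {g : Y ⟶ Spec (CommRingCat.of A)} (h : Gen I a g) (W : Y.Opens) :
    Gen I a (W.ι ≫ g) := by
  intro V
  have h' := h ⟨W.ι ''ᵁ V.1, V.2.image_of_isOpenImmersion _⟩
  have e : (res V.1).comp (glob (W.ι ≫ g)) = (res (W.ι ''ᵁ V.1)).comp (glob g) :=
    RingHom.ext (res_glob_ι W g V.1)
  rw [e, res_glob_ι]
  exact h'

/-- Locally one of the generators generates. -/
lemma exists_gen {g : Y ⟶ Spec (CommRingCat.of A)}
    (hg : BlowUp.IsEffCartierIdeal ((centre I).comap g)) (y : Y) :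
    ∃ (W : Y.Opens) (a : A), y ∈ W ∧ a ∈ I ∧ Gen I a (W.ι ≫ g) := by
  obtain ⟨U, hyU, e, he, hUe⟩ := hg y
  let φ : A →+* Γ(Y, U.1) := (res U.1).comp (glob g)
  have hφ : I.map φ = Ideal.span {e} := (centre_comap I g U).symm.trans hUe
  let T : Ideal Γ(Y, U.1) := Ideal.span {t | ∃ a ∈ I, φ a = t * e}
  have h1 : I.map φ ≤ Ideal.span {e} * T := by
    refine Ideal.map_le_iff_le_comap.mpr fun a ha => ?_
    obtain ⟨t, ht⟩ := Ideal.mem_span_singleton'.mp (hφ.le (Ideal.mem_map_of_mem φ ha))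
    rw [Ideal.mem_comap, Ideal.mem_span_singleton_mul]
    exact ⟨t, Ideal.subset_span ⟨a, ha, ht.symm⟩, by rw [mul_comm, ht]⟩
  have hone : (1 : Γ(Y, U.1)) ∈ T := by
    obtain ⟨z, hz, hz'⟩ := Ideal.mem_span_singleton_mul.mp
      (h1 (hφ.ge (Ideal.subset_span rfl)))
    have : z = 1 := (mul_cancel_left_mem_nonZeroDivisors he).mp (by rw [hz', mul_one])
    rwa [this] at hz
  obtain ⟨t, ⟨a, ha, hta⟩, ht⟩ : ∃ t ∈ {t | ∃ a ∈ I, φ a = t * e},
      IsUnit (Y.presheaf.germ U.1 y hyU t) := by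
    by_contra hcon
    push Not at hcon
    have hle : T ≤ (IsLocalRing.maximalIdeal (Y.presheaf.stalk y)).comap
        (Y.presheaf.germ U.1 y hyU).hom := by
      rw [Ideal.span_le]
      exact fun t ht => hcon t ht
    exact hle hone (by simp)
  refine ⟨Y.basicOpen t, a, (Y.mem_basicOpen _ _ hyU).mpr ht, ha, fun V => ?_⟩
  let V' : Y.affineOpens :=
    ⟨(Y.basicOpen t).ι ''ᵁ V.1, V.2.image_of_isOpenImmersion _⟩
  have hV : V'.1 ≤ Y.basicOpen t := by
    rintro _ ⟨v, -, rfl⟩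
    exact v.2
  have hVU : V'.1 ≤ U.1 := hV.trans (Y.basicOpen_le t)
  let r : Γ(Y, U.1) →+* Γ(Y, V'.1) := (Y.presheaf.map (homOfLE hVU).op).hom
  have hrφ : r.comp φ = (res V'.1).comp (glob g) := by
    refine RingHom.ext fun x => ?_
    change (Y.presheaf.map _).hom ((Y.presheaf.map _).hom (glob g x)) = _
    rw [← CommRingCat.comp_apply, ← Functor.map_comp]
    rfl
  have hunit : IsUnit (r t) := by
    have h2 := (RingedSpace.isUnit_res_basicOpen Y.toLocallyRingedSpace.toRingedSpace t).map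
      (Y.presheaf.map (homOfLE hV).op).hom
    have h3 : (Y.presheaf.map (homOfLE hV).op).hom
        ((Y.presheaf.map (homOfLE (Y.basicOpen_le t)).op).hom t) = r t := by
      rw [← CommRingCat.comp_apply, ← Functor.map_comp]; rfl
    exact h3 ▸ h2
  have hre : r e ∈ nonZeroDivisors Γ(Y, V'.1) := EffCartier.map_res_mem_nonZeroDivisors hVU he
  have e1 : (res V.1).comp (glob ((Y.basicOpen t).ι ≫ g)) = r.comp φ :=
    (RingHom.ext (res_glob_ι _ g V.1)).trans hrφ.symm
  have e2 : res V.1 (glob ((Y.basicOpen t).ι ≫ g) a) = r t * r e :=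
    (RingHom.congr_fun e1 a).trans ((congrArg r hta).trans (map_mul r t e))
  constructor
  · rw [e2]; exact mul_mem hunit.mem_nonZeroDivisors hre
  · have h5 : I.map (r.comp φ) = Ideal.span {r e} := by
      rw [← Ideal.map_map, hφ, Ideal.map_span, Set.image_singleton]
    rw [e1, e2]
    exact h5.le.trans (Ideal.span_singleton_mul_left_unit hunit (r e)).ge

variable {P : Scheme.{u}} {p : P ⟶ Spec (CommRingCat.of A)}
  {j : ∀ a : I, Spec (CommRingCat.of (Chart I (a : A))) ⟶ P} [∀ a, IsOpenImmersion (j a)]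

/-- If `a` generates along `g'` then every lift of `g'` lands in the `a`-chart. -/
lemma preimage_eq_top (hj : ∀ a, j a ≫ p = toBase I (a : A))
    (hcov : ⨆ a, (j a).opensRange = ⊤)
    (hov : ∀ a c : I, j c ⁻¹ᵁ (j a).opensRange = PrimeSpectrum.basicOpen (div I (c : A) a.2))
    (a : I) {g : Y ⟶ Spec (CommRingCat.of A)} (hgen : Gen I (a : A) g)
    (k : Y ⟶ P) (hk : k ≫ p = g) : k ⁻¹ᵁ (j a).opensRange = ⊤ := by
  refine top_le_iff.mp fun z _ => ?_
  obtain ⟨c, hc⟩ := Opens.mem_iSup.mp (hcov.ge (trivial : k z ∈ (⊤ : P.Opens)))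
  let Z : Y.Opens := k ⁻¹ᵁ (j c).opensRange
  have hrange : Set.range (Z.ι ≫ k) ⊆ Set.range (j c) := by
    rintro _ ⟨w, rfl⟩
    exact w.2
  let m := IsOpenImmersion.lift (j c) (Z.ι ≫ k) hrange
  have hm : m ≫ j c = Z.ι ≫ k := IsOpenImmersion.lift_fac _ _ _
  have hg' : m ≫ toBase I (c : A) = Z.ι ≫ g := by
    rw [← hj c, ← Category.assoc, hm, Category.assoc, hk]
  have hgen' : Gen I (a : A) (Z.ι ≫ g) := gen_ι_of_gen I hgen Z
  have hglob : (glob m).comp (algebraMap A (Chart I (c : A))) = glob (Z.ι ≫ g) := by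
    rw [← hg', glob_comp, glob_toBase]; rfl
  let u := glob m (div I (c : A) a.2)
  have h1 : glob (Z.ι ≫ g) (c : A) * u = glob (Z.ι ≫ g) (a : A) := by
    rw [← hglob, RingHom.comp_apply, RingHom.comp_apply, ← map_mul, algebraMap_mul_div]
  obtain ⟨v, hv⟩ := Ideal.mem_span_singleton'.mp
    (map_glob_le I (a : A) hgen' (Ideal.mem_map_of_mem _ c.2))
  have huv : v * u = 1 := by
    refine (mul_cancel_left_mem_nonZeroDivisors
      (glob_mem_nonZeroDivisors I (a : A) hgen')).mp ?_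
    conv_rhs => rw [mul_one, ← h1, ← hv]
    ring
  let w : Z.toScheme := ⟨z, hc⟩
  have hw : m w ∈ j c ⁻¹ᵁ (j a).opensRange := by
    rw [hov a c, ← basicOpen_eq_of_affine (R := CommRingCat.of (Chart I (c : A)))]
    suffices h : w ∈ m ⁻¹ᵁ (Spec (CommRingCat.of (Chart I (c : A)))).basicOpen
        ((Scheme.ΓSpecIso (CommRingCat.of (Chart I (c : A)))).inv (div I (c : A) a.2)) from h
    rw [Scheme.Hom.preimage_basicOpen_top]
    exact (Scheme.mem_basicOpen_top _ _ _).mpr ((IsUnit.of_mul_eq_one_right v huv).map _)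
  have e : j c (m w) = k z := by
    rw [← Scheme.Hom.comp_apply, hm, Scheme.Hom.comp_apply]
    rfl
  change k z ∈ (j a).opensRange
  rw [← e]
  exact hw

/-- An affine blow-up from a compatible family of charts. -/
theorem isBlowUp_of_charts (hj : ∀ a, j a ≫ p = toBase I (a : A))
    (hcov : ⨆ a, (j a).opensRange = ⊤)
    (hov : ∀ a c : I, j c ⁻¹ᵁ (j a).opensRange = PrimeSpectrum.basicOpen (div I (c : A) a.2)) :
    BlowUp.IsBlowUp p (centre I) := by
  refine ⟨EffCartier.of_openCover fun x => ?_, fun Y g hg => ?_⟩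
  · obtain ⟨a, ha⟩ := Opens.mem_iSup.mp (hcov.ge (trivial : x ∈ (⊤ : P.Opens)))
    refine ⟨(j a).opensRange, ha, (EffCartier.comap_iso_iff (j a).isoOpensRange.hom _).mp ?_⟩
    rw [← Scheme.IdealSheafData.comap_comp, ← Scheme.IdealSheafData.comap_comp,
      Scheme.Hom.isoOpensRange_hom_ι, hj a]
    exact effCartier_of_gen I a.2 (gen_toBase I (a : A) a.2)
  have loc : ∀ (Y : Scheme.{u}) (g : Y ⟶ Spec (CommRingCat.of A)) (a : I), Gen I (a : A) g →
      ∃! k : Y ⟶ P, k ≫ p = g := by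
    intro Y g a h
    obtain ⟨m, hm, huniq⟩ := existsUnique_lift I (a : A) h
    refine ⟨m ≫ j a, by simp only [Category.assoc, hj a, hm], fun k hk => ?_⟩
    have hr : Set.range k ⊆ Set.range (j a) := by
      rintro _ ⟨z, rfl⟩
      exact (preimage_eq_top I hj hcov hov a h k hk).ge (trivial : z ∈ (⊤ : Y.Opens))
    rw [← IsOpenImmersion.lift_fac (j a) k hr]
    congr 1
    refine huniq _ ?_
    change _ ≫ toBase I (a : A) = g
    rw [← hj a, ← Category.assoc, IsOpenImmersion.lift_fac]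
    exact hk
  have uniq : ∀ (Y : Scheme.{u}) (g : Y ⟶ Spec (CommRingCat.of A)),
      BlowUp.IsEffCartierIdeal ((centre I).comap g) →
      ∀ k k' : Y ⟶ P, k ≫ p = g → k' ≫ p = g → k = k' := by
    intro Y g hg k k' hk hk'
    choose W a hW ha hgen using exists_gen I hg
    refine (Y.openCoverOfIsOpenCover W (.mk (top_le_iff.mp fun y _ =>
      Opens.mem_iSup.mpr ⟨y, hW y⟩))).hom_ext _ _ fun y => ?_
    exact (loc _ _ ⟨a y, ha y⟩ (hgen y)).unique
      ((Category.assoc _ _ _).trans (congrArg (_ ≫ ·) hk)) ((Category.assoc _ _ _).trans (congrArg (_ ≫ ·) hk'))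
  choose W a hW ha hgen using exists_gen I hg
  choose k hk hk' using fun y => loc _ _ ⟨a y, ha y⟩ (hgen y)
  let 𝒰 := Y.openCoverOfIsOpenCover W (.mk (top_le_iff.mp fun y _ =>
    Opens.mem_iSup.mpr ⟨y, hW y⟩))
  have hcomp : ∀ y y', pullback.fst (𝒰.f y) (𝒰.f y') ≫ k y =
      pullback.snd (𝒰.f y) (𝒰.f y') ≫ k y' := by
    intro y y'
    refine uniq _ (pullback.fst (𝒰.f y) (𝒰.f y') ≫ 𝒰.f y ≫ g) ?_ _ _ ?_ ?_
    · rw [← Category.assoc, Scheme.IdealSheafData.comap_comp]
      exact EffCartier.comap_of_flat _ hg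
    · exact (Category.assoc _ _ _).trans (congrArg (_ ≫ ·) (hk y))
    · rw [pullback.condition_assoc]
      exact (Category.assoc _ _ _).trans (congrArg (_ ≫ ·) (hk y'))
  have hglue : 𝒰.glueMorphisms k hcomp ≫ p = g := by
    refine 𝒰.hom_ext _ _ fun y => ?_
    rw [Scheme.Cover.ι_glueMorphisms_assoc]
    exact hk y
  exact ⟨_, hglue, fun l hl => uniq Y g hg l _ hl hglue⟩

/-- `Proj` of the Rees algebra is the blow-up. -/
theorem isBlowUp_proj :
    BlowUp.IsBlowUp (Proj (Rees.deg (reesAlgebra I)) ↘ Spec (CommRingCat.of A)) (centre I) :=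
  isBlowUp_of_charts I (j := fun a => ProjRees.chart I a.2)
    (fun a => ProjRees.chart_over I a.2) (ProjRees.iSup_opensRange_chart I)
    (fun a c => ProjRees.chart_preimage_opensRange I c.2 a.2)

end Groth.Agent.BlowUp.Existence
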