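import Groth.Agent.BlowUp.Basic
import Groth.Prelude.Def_CurvBase

/-!
# Affine blow-up algebras and their universal property
-/

set_option autoImplicit false
set_option maxHeartbeats 400000

universe u

open CategoryTheory AlgebraicGeometry TopologicalSpace
open Groth.Agent.IdealSh

namespace Groth.Agent.BlowUp.AffineChart

section Ring

variable {A : Type u} [CommRing A] (I : Ideal A) (a : A)

abbrev Chart : Type u := ↥(BlowUp.affineAlgebra A I a)

lemma exists_pow_mul_eq (x : Chart I a) :
    ∃ (n : ℕ) (b : A), algebraMap A (Chart I a) a ^ n * x = algebraMap A (Chart I a) b := by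
  obtain ⟨n, b, hb⟩ := IsLocalization.Away.surj a (x : Localization.Away a)
  exact ⟨n, b, Subtype.ext (by simpa [mul_comm] using hb)⟩

lemma algebraMap_mem_nonZeroDivisors :
    algebraMap A (Chart I a) a ∈ nonZeroDivisors (Chart I a) := by
  rw [mem_nonZeroDivisors_iff_left]
  intro x hx
  have h := congrArg Subtype.val hx
  simp only [MulMemClass.coe_mul, Subalgebra.coe_algebraMap, ZeroMemClass.coe_zero] at h
  exact Subtype.ext ((IsLocalization.Away.algebraMap_isUnit a).mul_right_eq_zero.mp h)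

/-- The fraction `x / a`. -/
noncomputable def div {x : A} (hx : x ∈ I) : Chart I a :=
  ⟨IsLocalization.mk' (Localization.Away a) x ⟨a, Submonoid.mem_powers a⟩,
    Algebra.subset_adjoin ⟨x, hx, rfl⟩⟩

lemma algebraMap_mul_div {x : A} (hx : x ∈ I) :
    algebraMap A (Chart I a) a * div I a hx = algebraMap A (Chart I a) x :=
  Subtype.ext (IsLocalization.mk'_spec' (Localization.Away a) x ⟨a, Submonoid.mem_powers a⟩)

lemma map_eq_span (ha : a ∈ I) :
    I.map (algebraMap A (Chart I a)) = Ideal.span {algebraMap A (Chart I a) a} := by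
  refine le_antisymm (Ideal.map_le_iff_le_comap.mpr fun x hx => ?_) ?_
  · rw [Ideal.mem_comap, Ideal.mem_span_singleton, ← algebraMap_mul_div I a hx]
    exact Dvd.intro _ rfl
  · rw [Ideal.span_le, Set.singleton_subset_iff]
    exact Ideal.mem_map_of_mem _ ha

lemma pow_induction_mem {n : ℕ} {b : A} (hb : b ∈ I ^ n) :
    IsLocalization.mk' (Localization.Away a) b
      (⟨a ^ n, n, rfl⟩ : Submonoid.powers a) ∈ BlowUp.affineAlgebra A I a := by
  induction n generalizing b with
  | zero =>
    have : IsLocalization.mk' (Localization.Away a) b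
        (⟨a ^ 0, 0, rfl⟩ : Submonoid.powers a) = algebraMap A _ b := by
      rw [IsLocalization.mk'_eq_iff_eq_mul]; simp
    rw [this]
    exact Subalgebra.algebraMap_mem _ b
  | succ n ih =>
    rw [pow_succ] at hb
    refine Submodule.mul_induction_on hb (fun c hc x hx => ?_) fun c d hc hd => ?_
    · have : IsLocalization.mk' (Localization.Away a) (c * x)
          (⟨a ^ (n + 1), n + 1, rfl⟩ : Submonoid.powers a) =
          IsLocalization.mk' (Localization.Away a) c (⟨a ^ n, n, rfl⟩ : Submonoid.powers a) *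
            IsLocalization.mk' (Localization.Away a) x ⟨a, Submonoid.mem_powers a⟩ := by
        rw [← IsLocalization.mk'_mul]
        congr 1
        exact Subtype.ext (pow_succ a n)
      rw [this]
      exact Subalgebra.mul_mem _ (ih hc) (div I a hx).2
    · have : IsLocalization.mk' (Localization.Away a) (c + d)
          (⟨a ^ (n + 1), n + 1, rfl⟩ : Submonoid.powers a) =
          IsLocalization.mk' (Localization.Away a) c (⟨a ^ (n + 1), n + 1, rfl⟩ : Submonoid.powers a) +
          IsLocalization.mk' (Localization.Away a) d (⟨a ^ (n + 1), n + 1, rfl⟩ : Submonoid.powers a) := by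
        rw [IsLocalization.mk'_eq_mul_mk'_one, IsLocalization.mk'_eq_mul_mk'_one c,
          IsLocalization.mk'_eq_mul_mk'_one d, map_add, add_mul]
      rw [this]
      exact Subalgebra.add_mem _ hc hd

variable {R : Type u} [CommRing R] (φ : A →+* R)

lemma ext_of_comp {ψ ψ' : Chart I a →+* R} (ht : φ a ∈ nonZeroDivisors R)
    (h : ψ.comp (algebraMap A (Chart I a)) = φ) (h' : ψ'.comp (algebraMap A (Chart I a)) = φ) :
    ψ = ψ' := by
  ext x
  obtain ⟨n, b, hb⟩ := exists_pow_mul_eq I a x
  refine (mul_cancel_left_mem_nonZeroDivisors (pow_mem ht n)).mp ?_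
  have e : ∀ χ : Chart I a →+* R, χ.comp (algebraMap A (Chart I a)) = φ →
      φ a ^ n * χ x = φ b := by
    rintro χ rfl
    simp only [RingHom.comp_apply, ← map_pow, ← map_mul]
    rw [map_pow, hb]
  rw [e ψ h, e ψ' h']

/-- The universal property of the affine blow-up algebra. -/
lemma exists_lift (ht : φ a ∈ nonZeroDivisors R) (hI : I.map φ ≤ Ideal.span {φ a}) :
    ∃ ψ : Chart I a →+* R, ψ.comp (algebraMap A (Chart I a)) = φ := by
  let Rt := Localization.Away (φ a)
  have hinj : Function.Injective (algebraMap R Rt) :=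
    IsLocalization.injective (M := Submonoid.powers (φ a)) _
      (by rw [Submonoid.powers_le]; exact ht)
  let Φ : Localization.Away a →+* Rt := Localization.awayMap φ a
  have hΦ : ∀ c : A, Φ (algebraMap A _ c) = algebraMap R Rt (φ c) := fun c => by
    simp [Φ, Localization.awayMap, IsLocalization.Away.map, IsLocalization.map_eq, Rt]
  let T : Subalgebra A (Localization.Away a) :=
    { carrier := {z | Φ z ∈ Set.range (algebraMap R Rt)}
      mul_mem' := fun {p q} ⟨r, hr⟩ ⟨s, hs⟩ => ⟨r * s, by rw [map_mul, map_mul, hr, hs]⟩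
      add_mem' := fun {p q} ⟨r, hr⟩ ⟨s, hs⟩ => ⟨r + s, by rw [map_add, map_add, hr, hs]⟩
      algebraMap_mem' := fun c => ⟨φ c, (hΦ c).symm⟩ }
  have hle : BlowUp.affineAlgebra A I a ≤ T := by
    refine Algebra.adjoin_le ?_
    rintro _ ⟨x, hx, rfl⟩
    obtain ⟨q, hq⟩ := Ideal.mem_span_singleton'.mp (hI (Ideal.mem_map_of_mem φ hx))
    refine ⟨q, ?_⟩
    have h1 := congrArg Φ (IsLocalization.mk'_spec' (Localization.Away a) x
      ⟨a, Submonoid.mem_powers a⟩)
    rw [map_mul, hΦ, hΦ, ← hq, map_mul, mul_comm] at h1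
    exact ((IsLocalization.Away.algebraMap_isUnit (φ a)).mul_left_inj.mp h1).symm
  choose ψ hψ using fun x : Chart I a => hle x.2
  refine ⟨{ toFun := ψ, map_one' := hinj ?_, map_mul' := fun x y => hinj ?_,
            map_zero' := hinj ?_, map_add' := fun x y => hinj ?_ }, RingHom.ext fun c => hinj ?_⟩
  · rw [hψ]; simp
  · rw [map_mul, hψ, hψ, hψ]; simp
  · rw [hψ]; simp
  · rw [map_add, hψ, hψ, hψ]; simp
  · exact (hψ _).trans (hΦ c)

end Ring

section Scheme

variable {A : Type u} [CommRing A] (I : Ideal A) (a : A) {Y : Scheme.{u}}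

/-- The ring map on global sections of a morphism to an affine scheme. -/
noncomputable def glob (g : Y ⟶ Spec (CommRingCat.of A)) : A →+* Γ(Y, ⊤) :=
  ((Scheme.ΓSpecIso (CommRingCat.of A)).inv ≫ g.appTop).hom

/-- Restriction from global functions. -/
noncomputable abbrev res (V : Y.Opens) : Γ(Y, ⊤) →+* Γ(Y, V) :=
  (Y.presheaf.map (homOfLE (le_top : V ≤ ⊤)).op).hom

lemma glob_comp {Y' : Scheme.{u}} (h : Y' ⟶ Y) (g : Y ⟶ Spec (CommRingCat.of A)) :
    glob (h ≫ g) = h.appTop.hom.comp (glob g) := rfl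

lemma ideal_comap (g : Y ⟶ Spec (CommRingCat.of A)) (V : Y.affineOpens) :
    ((Curv2.idealSheaf A I).comap g).ideal V = I.map ((res V.1).comp (glob g)) := by
  have h1 := Comap.ofIdealTop_comap (I.map (Scheme.ΓSpecIso (CommRingCat.of A)).inv.hom) g V
  rw [Ideal.map_map, ← CommRingCat.hom_comp] at h1
  exact h1

/-- On every affine open the pulled back ideal is generated by `a`, a nonzerodivisor. -/
def Gen (g : Y ⟶ Spec (CommRingCat.of A)) : Prop :=
  ∀ V : Y.affineOpens, res V.1 (glob g a) ∈ nonZeroDivisors Γ(Y, V.1) ∧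
    I.map ((res V.1).comp (glob g)) ≤ Ideal.span {res V.1 (glob g a)}

lemma comp_mem_nonZeroDivisors {g : Y ⟶ Spec (CommRingCat.of A)} (h : Gen I a g) (y : Y) :
    Y.presheaf.germ ⊤ y trivial (glob g a) ∈ nonZeroDivisors (Y.presheaf.stalk y) := by
  obtain ⟨V, hyV, -⟩ := Comap.exists_affine_le y ⊤ trivial
  have h2 := Regular.germ_mem_nonZeroDivisors V.2 y hyV (h V).1
  rwa [show res V.1 (glob g a) = Y.presheaf.map (homOfLE le_top).op (glob g a) from rfl,
    TopCat.Presheaf.germ_res_apply] at h2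

lemma glob_mem_nonZeroDivisors {g : Y ⟶ Spec (CommRingCat.of A)} (h : Gen I a g) :
    glob g a ∈ nonZeroDivisors Γ(Y, ⊤) :=
  Regular.mem_nonZeroDivisors_of_germ fun y _ => comp_mem_nonZeroDivisors I a h y

lemma map_glob_le {g : Y ⟶ Spec (CommRingCat.of A)} (h : Gen I a g) :
    I.map (glob g) ≤ Ideal.span {glob g a} := by
  refine Ideal.map_le_iff_le_comap.mpr fun x hx => ?_
  have hloc : ∀ y : Y, ∃ V : Y.affineOpens, y ∈ V.1 ∧
      ∃ s, s * res V.1 (glob g a) = res V.1 (glob g x) := by
    intro y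
    obtain ⟨V, hyV, -⟩ := Comap.exists_affine_le y ⊤ trivial
    exact ⟨V, hyV, Ideal.mem_span_singleton'.mp ((h V).2 (Ideal.mem_map_of_mem _ hx))⟩
  choose V hV s hs using hloc
  have hcompat : TopCat.Presheaf.IsCompatible Y.sheaf.obj (fun y => (V y).1) s := by
    intro y y'
    refine TopCat.Presheaf.section_ext Y.sheaf _ _ _ fun z hz => ?_
    refine (mul_cancel_right_mem_nonZeroDivisors (comp_mem_nonZeroDivisors I a h z)).mp ?_
    erw [TopCat.Presheaf.germ_res_apply, TopCat.Presheaf.germ_res_apply]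
    have e1 := congrArg (Y.presheaf.germ (V y).1 z hz.1) (hs y)
    have e2 := congrArg (Y.presheaf.germ (V y').1 z hz.2) (hs y')
    simp only [map_mul, res, TopCat.Presheaf.germ_res_apply] at e1 e2
    exact e1.trans e2.symm
  have hcov : (⊤ : Y.Opens) ≤ iSup fun y => (V y).1 :=
    fun y _ => Opens.mem_iSup.mpr ⟨y, hV y⟩
  obtain ⟨z, hz, -⟩ := Y.sheaf.existsUnique_gluing' (fun y => (V y).1) ⊤
    (fun y => homOfLE le_top) hcov s hcompat
  obtain ⟨z', hz'⟩ : ∃ z' : Γ(Y, ⊤), ∀ y, res (V y).1 z' = s y := ⟨z, hz⟩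
  rw [Ideal.mem_comap, Ideal.mem_span_singleton']
  refine ⟨z', Y.sheaf.eq_of_locally_eq' (fun y => (V y).1) ⊤ (fun y => homOfLE le_top) hcov _ _
    fun y => ?_⟩
  change res (V y).1 (z' * glob g a) = res (V y).1 (glob g x)
  rw [map_mul, hz' y, hs y]

/-- The structure morphism of the affine chart. -/
noncomputable def toBase : Spec (CommRingCat.of (Chart I a)) ⟶ Spec (CommRingCat.of A) :=
  Spec.map (CommRingCat.ofHom (algebraMap A (Chart I a)))

lemma glob_toBase : glob (toBase I a) =
    (Scheme.ΓSpecIso (CommRingCat.of (Chart I a))).inv.hom.comp (algebraMap A (Chart I a)) := by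
  rw [glob, toBase, ← Scheme.ΓSpecIso_inv_naturality]
  rfl

lemma gen_toBase (ha : a ∈ I) : Gen I a (toBase I a) := by
  intro V
  constructor
  · rw [glob_toBase, RingHom.comp_apply]
    have h1 : Flat (𝟙 (Spec (CommRingCat.of (Chart I a)))) := inferInstance
    refine EffCartier.map_res_mem_nonZeroDivisors
      (U := ⟨⊤, isAffineOpen_top _⟩) (le_top : V.1 ≤ ⊤) ?_
    exact EffCartier.map_mem_nonZeroDivisors_of_flat _
      (RingHom.Flat.of_bijective (ConcreteCategory.bijective_of_isIso _))
      (algebraMap_mem_nonZeroDivisors I a)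
  · rw [← Ideal.map_map, glob_toBase, ← Ideal.map_map, map_eq_span I a ha, Ideal.map_span,
      Ideal.map_span, Set.image_singleton, Set.image_singleton]
    exact le_rfl

/-- The affine chart represents morphisms along which `a` generates the ideal. -/
theorem existsUnique_lift {g : Y ⟶ Spec (CommRingCat.of A)} (h : Gen I a g) :
    ∃! k : Y ⟶ Spec (CommRingCat.of (Chart I a)), k ≫ toBase I a = g := by
  have key : ∀ k : Y ⟶ Spec (CommRingCat.of (Chart I a)),
      k ≫ toBase I a = g ↔ (glob k).comp (algebraMap A (Chart I a)) = glob g := by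
    intro k
    have e1 : glob (k ≫ toBase I a) = (glob k).comp (algebraMap A (Chart I a)) := by
      rw [glob_comp, glob_toBase]; rfl
    constructor
    · rintro rfl; exact e1.symm
    · intro h2
      refine ext_of_isAffine ((cancel_epi (Scheme.ΓSpecIso (CommRingCat.of A)).inv).mp ?_)
      exact CommRingCat.hom_ext (e1.trans h2)
  obtain ⟨ψ, hψ⟩ := exists_lift I a (glob g) (glob_mem_nonZeroDivisors I a h) (map_glob_le I a h)
  have hk : glob (Y.toSpecΓ ≫ Spec.map (CommRingCat.ofHom ψ)) = ψ := by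
    rw [glob, Scheme.Hom.comp_appTop, Scheme.toSpecΓ_appTop, ← Category.assoc,
      ← Scheme.ΓSpecIso_inv_naturality, Category.assoc, Iso.inv_hom_id, Category.comp_id]
    rfl
  refine ⟨Y.toSpecΓ ≫ Spec.map (CommRingCat.ofHom ψ), (key _).mpr (by rw [hk, hψ]), fun k hk' => ?_⟩
  refine ext_of_isAffine ((cancel_epi (Scheme.ΓSpecIso (CommRingCat.of (Chart I a))).inv).mp ?_)
  refine CommRingCat.hom_ext ?_
  exact (ext_of_comp I a (glob g) (glob_mem_nonZeroDivisors I a h) ((key k).mp hk') hψ).trans
    hk.symm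

end Scheme

end Groth.Agent.BlowUp.AffineChart
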