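import Groth.Agent.BlowUp.AffineChart
import Groth.Agent.BlowUp.Local
import Groth.Agent.ModPairLib.Divide
import Groth.Agent.IdealSh.Stalk
import Groth.Agent.AssSch.Stalk

/-!
# Finite birational morphisms as blow-ups
-/

set_option linter.style.haveILetI false

universe u

open AlgebraicGeometry CategoryTheory TopologicalSpace
open Groth.Agent.IdealSh

namespace Groth.Agent.BlowUp.FiniteBirational

/-- A single generator of an effective Cartier ideal on an affine open is a nonzerodivisor. -/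
theorem generator_mem_nonZeroDivisors {Y : Scheme.{u}} {𝓘 : Y.IdealSheafData} (h : BlowUp.IsEffCartierIdeal 𝓘)
    (V : Y.affineOpens) (a : Γ(Y, V.1)) (ha : 𝓘.ideal V = Ideal.span {a}) : a ∈ nonZeroDivisors Γ(Y, V.1) := by
  refine Regular.mem_nonZeroDivisors_of_germ fun x hx => ?_
  obtain ⟨U, hxU, b, hb, hbI⟩ := h x
  have hb' : Y.presheaf.germ U.1 x hxU b ∈ nonZeroDivisors (Y.presheaf.stalk x) :=
    Regular.germ_mem_nonZeroDivisors U.2 x hxU hb
  have e1 : IntMult.stalkIdeal 𝓘 x = Ideal.span {Y.presheaf.germ V.1 x hx a} := by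
    rw [IdealSh.stalkIdeal_eq _ V hx, ha, Ideal.map_span, Set.image_singleton]
  have e2 : IntMult.stalkIdeal 𝓘 x = Ideal.span {Y.presheaf.germ U.1 x hxU b} := by
    rw [IdealSh.stalkIdeal_eq _ U hxU, hbI, Ideal.map_span, Set.image_singleton]
  obtain ⟨c, hc⟩ := Ideal.mem_span_singleton'.1 ((e1.symm.trans e2).ge (Ideal.mem_span_singleton_self _))
  rw [mem_nonZeroDivisors_iff_right]
  intro z hz
  refine (mem_nonZeroDivisors_iff_right.1 hb') z ?_
  rw [← hc, mul_left_comm, hz, mul_zero]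

section Ring

variable {A : Type u} [CommRing A] (I : Ideal A) (s : A)

/-- If `I ^ 2 = s I` the chart of `s` is the whole blow-up. -/
theorem isBlowUp_toBase (hs : s ∈ I) (hsq : I * I = Ideal.span {s} * I) :
    BlowUp.IsBlowUp (AffineChart.toBase I s) (Curv2.idealSheaf A I) := by
  have hgen := AffineChart.gen_toBase I s hs
  refine ⟨fun y => ?_, fun Y g hg => ?_⟩
  · obtain ⟨V, hy, -⟩ := Comap.exists_affine_le y ⊤ trivial
    refine ⟨V, hy, _, (hgen V).1, ?_⟩
    rw [AffineChart.ideal_comap]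
    exact le_antisymm (hgen V).2 (Ideal.span_le.2 (Set.singleton_subset_iff.2 (Ideal.mem_map_of_mem _ hs)))
  · have heq : (Curv2.idealSheaf A (Ideal.span {s})).comap g = (Curv2.idealSheaf A I).comap g := by
      refine ModPairLib.Divide.eq_of_mul_eq_mul hg ?_
      refine Comap.ext_of_forall_exists _ _ fun y => ?_
      obtain ⟨V, hy, -⟩ := Comap.exists_affine_le y ⊤ trivial
      refine ⟨V, hy, ?_⟩
      simp only [Scheme.IdealSheafData.ideal_mul, Pi.mul_apply, AffineChart.ideal_comap, ← Ideal.map_mul, hsq]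
    refine AffineChart.existsUnique_lift I s fun V => ?_
    have h1 : ((Curv2.idealSheaf A (Ideal.span {s})).comap g).ideal V =
        Ideal.span {AffineChart.res V.1 (AffineChart.glob g s)} := by
      rw [AffineChart.ideal_comap, Ideal.map_span, Set.image_singleton]
      rfl
    refine ⟨generator_mem_nonZeroDivisors (heq ▸ hg) V _ h1, ?_⟩
    rw [← AffineChart.ideal_comap, ← heq, h1]

/-- A birational extension `A ⊆ B` is the blow-up in a transporter ideal. -/
theorem isBlowUp_specMap {B : Type u} [CommRing B] (φ : A →+* B) (hinj : Function.Injective φ) (hs : s ∈ I)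
    (hsB : φ s ∈ nonZeroDivisors B) (hIB : I.map φ ≤ Ideal.span {φ s}) (hdiv : ∀ b, ∃ a ∈ I, φ a = φ s * b) :
    BlowUp.IsBlowUp (Spec.map (CommRingCat.ofHom φ)) (Curv2.idealSheaf A I) := by
  have hsq : I * I = Ideal.span {s} * I := by
    refine le_antisymm (Ideal.mul_le.2 fun a ha a' ha' => ?_)
      (Ideal.mul_mono_left (Ideal.span_le.2 (Set.singleton_subset_iff.2 hs)))
    obtain ⟨b, hb⟩ := Ideal.mem_span_singleton'.1 (hIB (Ideal.mem_map_of_mem φ ha))
    obtain ⟨b', hb'⟩ := Ideal.mem_span_singleton'.1 (hIB (Ideal.mem_map_of_mem φ ha'))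
    obtain ⟨a'', ha'', he⟩ := hdiv (b * b')
    have : a * a' = s * a'' := hinj (by rw [map_mul, map_mul, ← hb, ← hb', he]; ring)
    rw [this]
    exact Ideal.mul_mem_mul (Ideal.mem_span_singleton_self s) ha''
  obtain ⟨ψ, hψ⟩ := AffineChart.exists_lift I s φ hsB hIB
  have hψa : ∀ a, ψ (algebraMap A _ a) = φ a := fun a => RingHom.congr_fun hψ a
  have hbij : Function.Bijective ψ := by
    refine ⟨(injective_iff_map_eq_zero ψ).2 fun x hx => ?_, fun b => ?_⟩
    · obtain ⟨n, c, hc⟩ := AffineChart.exists_pow_mul_eq I s x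
      have : φ c = 0 := by rw [← hψa, ← hc, map_mul, hx, mul_zero]
      rw [(injective_iff_map_eq_zero φ).1 hinj c this, map_zero] at hc
      exact (mem_nonZeroDivisors_iff_left.1 (pow_mem (AffineChart.algebraMap_mem_nonZeroDivisors I s) n)) x hc
    · obtain ⟨a, ha, he⟩ := hdiv b
      refine ⟨AffineChart.div I s ha, (mul_cancel_left_mem_nonZeroDivisors hsB).1 ?_⟩
      rw [← hψa s, ← map_mul, AffineChart.algebraMap_mul_div, hψa, he, hψa]
  haveI : IsIso (CommRingCat.ofHom ψ) := (ConcreteCategory.isIso_iff_bijective (CommRingCat.ofHom ψ)).2 hbij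
  have := Basic.isBlowUp_iso_comp (isBlowUp_toBase I s hs hsq) (asIso (Spec.map (CommRingCat.ofHom ψ)))
  rw [asIso_hom, AffineChart.toBase, ← Spec.map_comp, ← CommRingCat.ofHom_comp, hψ] at this
  exact this

end Ring

variable {X Y : Scheme.{u}}

/-- An affine open sees a pulled back ideal sheaf as its ideal. -/
theorem comap_fromSpec (I : Y.IdealSheafData) (U : Y.affineOpens) :
    I.comap U.2.fromSpec = Curv2.idealSheaf Γ(Y, U.1) (I.ideal U) := by
  refine Scheme.IdealSheafData.ext_of_isAffine ?_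
  have e : U.2.fromSpec.appLE U.1 ⊤ U.2.fromSpec_preimage_self.ge = (Scheme.ΓSpecIso Γ(Y, U.1)).inv := by
    rw [Scheme.Hom.appLE, IsAffineOpen.fromSpec_app_self, Category.assoc, ← Functor.map_comp]
    exact (congrArg (_ ≫ ·) ((congrArg _ (Subsingleton.elim _ (𝟙 _))).trans
      (CategoryTheory.Functor.map_id _ _))).trans (Category.comp_id _)
  rw [Comap.ideal_comap I U.2.fromSpec U ⟨⊤, isAffineOpen_top _⟩ U.2.fromSpec_preimage_self.ge, e,
    Curv2.idealSheaf, Scheme.IdealSheafData.ofIdealTop_ideal]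
  simp
  rfl

/-- Restriction of an affine morphism to an affine open of the base, as a map of spectra. -/
theorem isBlowUp_restrict (f : X ⟶ Y) [IsAffineHom f] (I : Y.IdealSheafData) (U : Y.affineOpens)
    (h : BlowUp.IsBlowUp (Spec.map (f.app U.1)) (Curv2.idealSheaf Γ(Y, U.1) (I.ideal U))) :
    BlowUp.IsBlowUp (f ∣_ U.1) (I.comap U.1.ι) := by
  have hV : IsAffineOpen (f ⁻¹ᵁ U.1) := U.2.preimage f
  have e1 : (f ∣_ U.1) ≫ U.2.isoSpec.hom = hV.isoSpec.hom ≫ Spec.map (f.app U.1) := by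
    rw [← cancel_mono U.2.fromSpec, Category.assoc, Category.assoc, U.2.isoSpec_hom_fromSpec,
      Scheme.Hom.app_eq_appLE, IsAffineOpen.SpecMap_appLE_fromSpec f U.2 hV le_rfl, ← Category.assoc,
      hV.isoSpec_hom_fromSpec, morphismRestrict_ι]
  have e2 : f ∣_ U.1 = (hV.isoSpec.hom ≫ Spec.map (f.app U.1)) ≫ U.2.isoSpec.symm.hom := by
    rw [← e1, Category.assoc, Iso.symm_hom, Iso.hom_inv_id, Category.comp_id]
  rw [e2]
  refine Local.comp_iso U.2.isoSpec.symm ?_
  rw [← Scheme.IdealSheafData.comap_comp, Iso.symm_hom, IsAffineOpen.isoSpec_inv_ι, comap_fromSpec]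
  exact Basic.isBlowUp_iso_comp h hV.isoSpec

variable [IsReduced X] [IsReduced Y] (f : X ⟶ Y) [IsFinite f] (L : Y.IdealSheafData)

/-- Data on an affine open on which the exceptional divisor is principal. -/
theorem exists_exponent (hiso : IsIso (f ∣_ L.support.compl))
    (hdense : Dense (f.base ⁻¹' ((L.support : Set Y)ᶜ))) (U : Y.affineOpens) (t : Γ(Y, U.1))
    (ht : t ∈ nonZeroDivisors Γ(Y, U.1)) (hL : L.ideal U = Ideal.span {t}) :
    Function.Injective (f.app U.1).hom ∧ (f.app U.1).hom t ∈ nonZeroDivisors Γ(X, f ⁻¹ᵁ U.1) ∧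
      ∃ n : ℕ, ∀ b : Γ(X, f ⁻¹ᵁ U.1), ∃ a, (f.app U.1).hom a = (f.app U.1).hom t ^ n * b := by
  classical
  have hV : IsAffineOpen (f ⁻¹ᵁ U.1) := U.2.preimage f
  let A := Γ(Y, U.1)
  let B := Γ(X, f ⁻¹ᵁ U.1)
  let φ : A →+* B := (f.app U.1).hom
  have hsupp : ∀ y ∈ U.1, y ∈ L.support ↔ y ∉ Y.basicOpen t := fun y hy => by
    rw [Scheme.IdealSheafData.mem_support_iff_of_mem hy, hL, Scheme.zeroLocus_span]
    simp [Scheme.zeroLocus]
    rfl
  have hzero : ∀ b : B, φ t * b = 0 → b = 0 := fun b hb => by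
    refine (basicOpen_eq_bot_iff b).1 ?_
    by_contra hne
    obtain ⟨x, hx, hx'⟩ := hdense.inter_open_nonempty (X.basicOpen b : Set X) (X.basicOpen b).2
      (by
        by_contra h
        exact hne (Opens.ext (Set.not_nonempty_iff_eq_empty.1 h)))
    have hxU : f x ∈ U.1 := X.basicOpen_le b hx
    have hxt : x ∈ X.basicOpen (φ t) := by
      rw [← Scheme.preimage_basicOpen]
      by_contra hc
      exact hx' ((hsupp _ hxU).2 hc)
    have : x ∈ X.basicOpen (φ t * b) := by
      rw [Scheme.basicOpen_mul]; exact ⟨hxt, hx⟩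
    rw [hb, Scheme.basicOpen_zero] at this
    exact this
  have hnzd : φ t ∈ nonZeroDivisors B := mem_nonZeroDivisors_iff_left.2 hzero
  have hDU : Y.basicOpen t ≤ L.support.compl := fun y hy hys =>
    (hsupp y (Y.basicOpen_le t hy)).1 hys hy
  haveI hIsoD : IsIso (f ∣_ Y.basicOpen t) := by
    haveI := hiso
    let W : Y.Opens := L.support.compl
    haveI hW : IsIso (f ∣_ W) := hiso
    have h2 : MorphismProperty.isomorphisms Scheme.{u} (f ∣_ (W.ι ''ᵁ (W.ι ⁻¹ᵁ Y.basicOpen t))) := by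
      rw [← (MorphismProperty.isomorphisms Scheme.{u}).arrow_mk_iso_iff (morphismRestrictRestrict f W _)]
      exact (inferInstance : IsIso ((f ∣_ W) ∣_ _))
    rw [Scheme.Hom.image_preimage_eq_opensRange_inf, Scheme.Opens.opensRange_ι, inf_eq_right.2 (show Y.basicOpen t ≤ W from hDU)] at h2
    exact h2
  have hbij : Function.Bijective (f.app (Y.basicOpen t)).hom := by
    haveI : IsIso (f.app (Y.basicOpen t)) := by
      have h3 : IsIso ((f ∣_ Y.basicOpen t).app ⊤) := inferInstance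
      rw [morphismRestrict_app] at h3
      rw [Scheme.Hom.app_eq_appLE] at h3 ⊢
      simp only [Scheme.Hom.appLE_map] at h3
      exact (f.appLE_congr _ (Scheme.Opens.ι_image_top _) (Scheme.Opens.ι_image_top _)
        (fun {_ _} g => IsIso g)).1 h3
    exact ConcreteCategory.bijective_of_isIso _
  haveI := U.2.isLocalization_basicOpen t
  have hcomm : ∀ a : A, (f.app (Y.basicOpen t)).hom (Y.presheaf.map (homOfLE (Y.basicOpen_le t)).op a) =
      X.presheaf.map ((Opens.map f.base).map (homOfLE (Y.basicOpen_le t))).op (φ a) := fun a => by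
    rw [← CommRingCat.comp_apply, f.naturality]
    rfl
  haveI := hV.isLocalization_of_eq_basicOpen (φ t) (((Opens.map f.base).map (homOfLE (Y.basicOpen_le t))))
    (f.preimage_basicOpen t)
  letI : Algebra B Γ(X, f ⁻¹ᵁ Y.basicOpen t) :=
    (X.presheaf.map ((Opens.map f.base).map (homOfLE (Y.basicOpen_le t))).op).hom.toAlgebra
  have hinj : Function.Injective φ := (injective_iff_map_eq_zero φ).2 fun a ha => by
    have h0 : algebraMap A Γ(Y, Y.basicOpen t) a = 0 := hbij.1 (by
      rw [map_zero]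
      exact (hcomm a).trans (by rw [ha, map_zero]))
    obtain ⟨⟨_, k, rfl⟩, hk⟩ := (IsLocalization.map_eq_zero_iff (Submonoid.powers t) _ a).1 h0
    exact (mem_nonZeroDivisors_iff_left.1 (pow_mem ht k)) a hk
  refine ⟨hinj, hnzd, ?_⟩
  have hb : ∀ b : B, ∃ k : ℕ, ∃ a, φ a = φ t ^ k * b := fun b => by
    obtain ⟨a', ha'⟩ := hbij.2 (algebraMap B Γ(X, f ⁻¹ᵁ Y.basicOpen t) b)
    obtain ⟨⟨a, ⟨_, k, rfl⟩⟩, hak⟩ := IsLocalization.surj (Submonoid.powers t) a'
    refine ⟨k, a, ?_⟩
    have h1 := congrArg (f.app (Y.basicOpen t)).hom hak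
    rw [map_mul, ha'] at h1
    have h2 : algebraMap B Γ(X, f ⁻¹ᵁ Y.basicOpen t) (φ t ^ k * b) =
        algebraMap B Γ(X, f ⁻¹ᵁ Y.basicOpen t) (φ a) := by
      rw [map_mul, mul_comm, ← map_pow φ]
      exact (congrArg (_ * ·) (hcomm (t ^ k)).symm).trans (h1.trans (hcomm a))
    obtain ⟨⟨_, j, rfl⟩, hj⟩ := (IsLocalization.eq_iff_exists (Submonoid.powers (φ t)) _).1 h2
    exact ((mul_cancel_left_mem_nonZeroDivisors (pow_mem hnzd j)).1 hj).symm
  letI : Algebra A B := φ.toAlgebra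
  have hfin : Module.Finite A B := f.finite_app U.1 U.2
  obtain ⟨G, hG⟩ := hfin.fg_top
  choose k a ha using hb
  refine ⟨G.sup k, fun b => ?_⟩
  have hbG : b ∈ Submodule.span A (G : Set B) := hG ▸ Submodule.mem_top
  induction hbG using Submodule.span_induction with
  | mem b hbG =>
    refine ⟨t ^ (G.sup k - k b) * a b, ?_⟩
    show φ _ = φ t ^ _ * b
    rw [map_mul, map_pow, ha, ← mul_assoc, ← pow_add, Nat.sub_add_cancel (Finset.le_sup hbG)]
  | zero => exact ⟨0, by simp⟩
  | add b c _ _ hb hc =>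
    obtain ⟨x, hx⟩ := hb
    obtain ⟨y, hy⟩ := hc
    exact ⟨x + y, by rw [map_add, hx, hy, mul_add]⟩
  | smul r b _ hb =>
    obtain ⟨x, hx⟩ := hb
    refine ⟨r * x, ?_⟩
    rw [map_mul, hx, Algebra.smul_def]
    show φ r * (φ t ^ _ * b) = φ t ^ _ * (φ r * b)
    ring

/-- A finite birational morphism is a blow-up. -/
theorem exists_isBlowUp [CompactSpace Y] (hL : BlowUp.IsEffCartierIdeal L) (hiso : IsIso (f ∣_ L.support.compl))
    (hdense : Dense (f.base ⁻¹' ((L.support : Set Y)ᶜ))) :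
    ∃ I : Y.IdealSheafData, I.support = L.support ∧ BlowUp.IsBlowUp f I := by
  classical
  choose U hyU t ht htL using hL
  obtain ⟨P, hP⟩ := isCompact_univ.elim_finite_subcover (fun y : Y => ((U y).1 : Set Y))
    (fun y => (U y).1.2) (fun y _ => Set.mem_iUnion.2 ⟨y, hyU y⟩)
  choose hinj hnzd N hN using fun y => exists_exponent f L hiso hdense (U y) (t y) (ht y) (htL y)
  let n := P.sup N + 1
  let I : Y.IdealSheafData := ((L ^ n).comap f).map f
  have hcov : ⨆ y : {y // y ∈ P}, (U y.1).1 = ⊤ := top_unique fun x _ => by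
    obtain ⟨y, hy, hxy⟩ := Set.mem_iUnion₂.1 (hP (Set.mem_univ x))
    exact Opens.mem_iSup.2 ⟨⟨y, hy⟩, hxy⟩
  have hIU : ∀ y, I.ideal (U y) = (Ideal.span {(f.app (U y).1).hom (t y ^ n)}).comap (f.app (U y).1).hom := fun y => by
    rw [Scheme.IdealSheafData.ideal_map_of_isAffineHom, Comap.ideal_comap_app,
      Scheme.IdealSheafData.ideal_pow, Pi.pow_apply, htL, Ideal.span_singleton_pow, Ideal.map_span,
      Set.image_singleton]
  have hdiv : ∀ y ∈ P, ∀ b : Γ(X, f ⁻¹ᵁ (U y).1), ∃ a ∈ I.ideal (U y),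
      (f.app (U y).1).hom a = (f.app (U y).1).hom (t y ^ n) * b := fun y hy b => by
    obtain ⟨a, ha⟩ := hN y ((f.app (U y).1).hom (t y) ^ (n - N y) * b)
    have hle : N y ≤ n := (Finset.le_sup hy).trans (Nat.le_succ _)
    have e : (f.app (U y).1).hom a = (f.app (U y).1).hom (t y ^ n) * b := by
      rw [ha, map_pow, ← mul_assoc, ← pow_add, Nat.add_sub_cancel' hle]
    refine ⟨a, ?_, e⟩
    rw [hIU, Ideal.mem_comap, e]
    exact Ideal.mul_mem_right _ _ (Ideal.mem_span_singleton_self _)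
  refine ⟨I, ?_, Local.of_isOpenCover (fun y : {y // y ∈ P} => (U y.1).1) hcov fun y => ?_⟩
  · refine SetLike.ext fun x => ?_
    obtain ⟨y, hy, hxy⟩ := Set.mem_iUnion₂.1 (hP (Set.mem_univ x))
    rw [Scheme.IdealSheafData.mem_support_iff_of_mem hxy, Scheme.IdealSheafData.mem_support_iff_of_mem hxy,
      htL, Scheme.mem_zeroLocus_iff, Scheme.mem_zeroLocus_iff]
    constructor
    · intro h a ha hxa
      obtain ⟨c, rfl⟩ := Ideal.mem_span_singleton'.1 ha
      refine h (t y ^ n) ?_ ?_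
      · rw [hIU, SetLike.mem_coe, Ideal.mem_comap]
        exact Ideal.mem_span_singleton_self _
      · rw [Scheme.basicOpen_pow _ _ (Nat.succ_pos (P.sup N))]
        rw [Scheme.basicOpen_mul] at hxa
        exact hxa.2
    · intro h a ha hxa
      let A := Γ(Y, (U y).1)
      letI : Algebra A Γ(X, f ⁻¹ᵁ (U y).1) := (f.app (U y).1).hom.toAlgebra
      haveI : Module.Finite A Γ(X, f ⁻¹ᵁ (U y).1) := f.finite_app (U y).1 (U y).2
      let p := AssSch.Stalk.primeOf (U y).2 x hxy
      obtain ⟨P', hP', hP'c⟩ := Ideal.exists_ideal_over_prime_of_isIntegral p (⊥ : Ideal Γ(X, f ⁻¹ᵁ (U y).1)) (by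
        intro z hz
        rw [(injective_iff_map_eq_zero _).1 (hinj y) z (Ideal.mem_bot.1 hz)]
        exact zero_mem _)
      have ht' : t y ∈ p := by
        by_contra hc
        exact h (t y) (Ideal.mem_span_singleton_self _) ((AssSch.Stalk.mem_basicOpen_iff (U y).2 x hxy _).2 hc)
      refine (AssSch.Stalk.mem_basicOpen_iff (U y).2 x hxy a).1 hxa (hP'c.2.le ?_)
      rw [Ideal.mem_comap]
      rw [hIU, SetLike.mem_coe, Ideal.mem_comap] at ha
      refine (Ideal.span_le.2 (Set.singleton_subset_iff.2 ?_)) ha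
      have : t y ∈ P'.comap (algebraMap A _) := hP'c.2.ge ht'
      rw [map_pow]
      exact Ideal.pow_mem_of_mem P' this n (Nat.succ_pos _)
  · refine isBlowUp_restrict f I (U y.1) ?_
    refine isBlowUp_specMap (I.ideal (U y.1)) (t y.1 ^ n) (f.app (U y.1).1).hom (hinj y.1) ?_ ?_ ?_ (hdiv y.1 y.2)
    · rw [hIU, Ideal.mem_comap]
      exact Ideal.mem_span_singleton_self _
    · rw [map_pow]
      exact pow_mem (hnzd y.1) _
    · rw [hIU]
      exact Ideal.map_comap_le

end Groth.Agent.BlowUp.FiniteBirational
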