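import Groth.Agent.BlowUp.RelAmple
import Groth.Agent.S2331
import Groth.Agent.S4418
import Groth.Agent.ProjBundleLib.FTQP
import Groth.Agent.S9706
import Groth.Agent.ProjMor.Closed
import Groth.Agent.FlatMor.SchDom

/-!
# Blow-ups and quasi-projectivity
-/

set_option autoImplicit false
set_option backward.isDefEq.respectTransparency false
set_option backward.defeqAttrib.useBackward true

universe u

open CategoryTheory CategoryTheory.Limits AlgebraicGeometry

namespace Groth.Agent.BlowUp.QProj

variable {X Y Z : Scheme.{u}}

/-- Composites of quasi-projective morphisms over a quasi-compact base are quasi-projective. -/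
lemma isQuasiProjective_comp [CompactSpace Z] {f : X ⟶ Y} {g : Y ⟶ Z}
    (hf : RelProj.IsQuasiProjective f) (hg : RelProj.IsQuasiProjective g) :
    RelProj.IsQuasiProjective (f ≫ g) := by
  obtain ⟨_, _, L, hL⟩ := hf
  obtain ⟨_, _, K, hK⟩ := hg
  obtain ⟨n, -, hn⟩ := S2331.result f g L K hL hK
  exact ⟨inferInstance, inferInstance, _, hn n le_rfl⟩

/-- A blow-up in a finite type ideal is quasi-projective. -/
lemma isQuasiProjective_of_isBlowUp {b : X ⟶ Y} {𝓘 : Y.IdealSheafData} (hb : BlowUp.IsBlowUp b 𝓘)
    (h : BlowUp.IsFiniteTypeIdeal 𝓘) : RelProj.IsQuasiProjective b := by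
  haveI := BlowUpProper.Basic.isProper hb h
  exact ⟨inferInstance, inferInstance, _, RelAmple.isRelAmple_exceptional hb h⟩

/-- Proper quasi-projective morphisms over a qcqs base are projective. -/
lemma isProjective_of_isProper [CompactSpace Y] [QuasiSeparatedSpace Y] (f : X ⟶ Y) [IsProper f]
    (hf : RelProj.IsQuasiProjective f) : RelProj.IsProjective f := by
  obtain ⟨E, hE, B, i, hft, hi, hip⟩ := ProjBundleLib.exists_ft_bundle_of_isQuasiProjective hf
  exact ProjBundleLib.isProjective_of_immersion hft B i hip

/-- A quasi-projective morphism over a qcqs base has a projective compactification in which it is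
scheme-theoretically dominant. -/
lemma exists_dense_projective [CompactSpace Y] [QuasiSeparatedSpace Y] (f : X ⟶ Y)
    (hf : RelProj.IsQuasiProjective f) :
    ∃ (P : Scheme.{u}) (j : X ⟶ P) (g : P ⟶ Y), IsOpenImmersion j ∧ QuasiCompact j ∧
      IsSchemeTheoreticallyDominant j ∧ RelProj.IsProjective g ∧ j ≫ g = f := by
  obtain ⟨P, j, g, _, hg, hjg⟩ := S9706.result f hf
  have : IsProper g := (S4418.result g hg).2
  haveI : QuasiCompact f := hf.2.1
  haveI : QuasiCompact j := by
    have : QuasiCompact (j ≫ g) := by rw [hjg]; infer_instance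
    exact QuasiCompact.of_comp j g
  haveI : QuasiCompact (j.toImage ≫ j.imageι) := by rw [Scheme.Hom.toImage_imageι]; infer_instance
  exact ⟨j.image, j.toImage, j.imageι ≫ g, FlatMor.SchDom.isOpenImmersion_toImage' j (Or.inl inferInstance),
    QuasiCompact.of_comp _ j.imageι, FlatMor.SchDom.toImage_dominant j (Or.inl inferInstance),
    ProjMor.isProjective_closedImmersion_comp hg j.imageι,
    by rw [← Category.assoc, Scheme.Hom.toImage_imageι, hjg]⟩

end Groth.Agent.BlowUp.QProj
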