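import Groth.Agent.BlowUp.Local
import Mathlib.AlgebraicGeometry.Morphisms.ClosedImmersion

/-!
# Strict transforms of closed subschemes are closed subschemes
-/

set_option autoImplicit false
set_option maxHeartbeats 400000

universe u

open CategoryTheory CategoryTheory.Limits AlgebraicGeometry TopologicalSpace
open Groth.Agent.IdealSh

namespace Groth.Agent.BlowUp.StrictClosed

variable {X Y X' Y' : Scheme.{u}}

/-- The complement of an effective Cartier divisor is affine over the ambient scheme. -/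
lemma isAffineHom_compl {𝓔 : X.IdealSheafData} (h : BlowUp.IsEffCartierIdeal 𝓔)
    (W : X.Opens) (hW : (W : Set X) = (𝓔.support : Set X)ᶜ) : IsAffineHom W.ι := by
  refine isAffineHom_of_forall_exists_isAffineOpen _ fun x => ?_
  obtain ⟨V, hxV, e, -, he⟩ := h x
  refine ⟨V.1, hxV, V.2, ?_⟩
  rw [← W.ι.isAffineOpen_iff_of_isOpenImmersion,
    Scheme.Hom.image_preimage_eq_opensRange_inf, Scheme.Opens.opensRange_ι]
  have h2 : W ⊓ V.1 = X.basicOpen e := by
    apply SetLike.coe_injective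
    rw [Opens.coe_inf, hW, Regular.basicOpen_eq_compl_support he, Set.inter_comm,
      Set.sdiff_eq]
  rw [h2]
  exact V.2.basicOpen e

theorem main {𝓘 : X.IdealSheafData} (f : Y ⟶ X) [IsClosedImmersion f]
    {b : X' ⟶ X} (hb : BlowUp.IsBlowUp b 𝓘) {b' : Y' ⟶ Y}
    (hb' : BlowUp.IsBlowUp b' (𝓘.comap f)) (k : Y' ⟶ X') (hk : k ≫ b = b' ≫ f) :
    IsClosedImmersion k ∧
      IsAffineHom ((k ⁻¹ᵁ (b ⁻¹ᵁ 𝓘.support.compl)).ι ≫ k) ∧
      ((k ⁻¹ᵁ (b ⁻¹ᵁ 𝓘.support.compl)).ι ≫ k).ker = k.ker := by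
  let U : X.Opens := 𝓘.support.compl
  let W : X'.Opens := b ⁻¹ᵁ U
  have hWc : (W : Set X') = ((𝓘.comap b).support : Set X')ᶜ := by
    rw [Scheme.IdealSheafData.support_comap]; rfl
  have hEk : BlowUp.IsEffCartierIdeal ((𝓘.comap b).comap k) := by
    rw [← Scheme.IdealSheafData.comap_comp, hk, Scheme.IdealSheafData.comap_comp]
    exact hb'.1
  -- off the centre `k` is a closed immersion
  have hci : IsClosedImmersion (k ∣_ W) := by
    have hU : Disjoint (U : Set X) (𝓘.support : Set X) := disjoint_compl_left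
    have := Basic.isIso_restrict hb U hU
    have hfU : Disjoint ((f ⁻¹ᵁ U : Y.Opens) : Set Y) ((𝓘.comap f).support : Set Y) := by
      rw [Scheme.IdealSheafData.support_comap]
      exact hU.preimage _
    have := Basic.isIso_restrict hb' (f ⁻¹ᵁ U) hfU
    have : IsClosedImmersion (f ∣_ U) := IsZariskiLocalAtTarget.restrict ‹_› U
    have e1 : (k ≫ b) ∣_ U = (k ∣_ W) ≫ (b ∣_ U) := morphismRestrict_comp _ _ _
    have h2 : IsClosedImmersion ((b' ≫ f) ∣_ U) := by
      rw [morphismRestrict_comp]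
      exact MorphismProperty.comp_mem _ _ _ inferInstance inferInstance
    have h3 : IsClosedImmersion ((k ≫ b) ∣_ U) := by
      have e2 : Arrow.mk ((k ≫ b) ∣_ U) = Arrow.mk ((b' ≫ f) ∣_ U) := by rw [hk]
      exact (MorphismProperty.arrow_mk_iso_iff @IsClosedImmersion (eqToIso e2)).mpr h2
    rw [e1] at h3
    exact (MorphismProperty.cancel_right_of_respectsIso @IsClosedImmersion (k ∣_ W) (b ∣_ U)).mp h3
  have haff : IsAffineHom ((k ⁻¹ᵁ W).ι ≫ k) := by
    rw [← morphismRestrict_ι]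
    have := isAffineHom_compl hb.1 W hWc
    exact MorphismProperty.comp_mem _ _ _ inferInstance this
  let K := ((k ⁻¹ᵁ W).ι ≫ k).ker
  have hK : ∀ V : X'.affineOpens, ∀ x : Γ(X', V.1),
      x ∈ K.ideal V ↔ (((k ⁻¹ᵁ W).ι ≫ k).app V.1).hom x = 0 := fun V x => by
    rw [Scheme.Hom.ker_apply]; rfl
  -- the exceptional ideal is Cartier on the image
  have hcart : BlowUp.IsEffCartierIdeal ((𝓘.comap b).comap K.subschemeι) := by
    intro z
    obtain ⟨V, hzV, e, -, he⟩ := hb.1 (K.subschemeι z)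
    let V'' : K.subscheme.affineOpens := ⟨K.subschemeι ⁻¹ᵁ V.1, V.2.preimage _⟩
    refine ⟨V'', hzV, _, ?_, Comap.ideal_comap_span_singleton (𝓘.comap b) K.subschemeι V V'' le_rfl he⟩
    rw [mem_nonZeroDivisors_iff_right]
    intro y hy
    obtain ⟨x, rfl⟩ := K.subschemeι_app_surjective V y
    rw [Scheme.Hom.app_eq_appLE] at *
    rw [← map_mul, ← RingHom.mem_ker, ← Scheme.Hom.app_eq_appLE, K.ker_subschemeι_app, hK,
      map_mul] at hy
    rw [← RingHom.mem_ker, ← Scheme.Hom.app_eq_appLE, K.ker_subschemeι_app, hK]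
    refine (IsUnit.mul_left_eq_zero ?_).mp hy
    let φ := (k ⁻¹ᵁ W).ι ≫ k
    refine RingedSpace.isUnit_of_isUnit_germ _ _ _ fun w hw => ?_
    refine (Scheme.mem_basicOpen _ _ w hw).mp ?_
    rw [← Scheme.preimage_basicOpen]
    change φ w ∈ X'.basicOpen e
    rw [← SetLike.mem_coe, Regular.basicOpen_eq_compl_support he]
    exact ⟨hw, fun hmem => by
      have : φ w ∈ W := w.2
      rw [← SetLike.mem_coe, hWc] at this
      exact this hmem⟩
  -- `K` is killed by `k`
  have hKk : K ≤ k.ker := by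
    refine Scheme.IdealSheafData.le_ofIdeals_iff.mpr fun V x hx => ?_
    refine RingHom.mem_ker.mpr (TopCat.Presheaf.section_ext Y'.sheaf _ _ _ fun y hy => ?_)
    obtain ⟨T, hyT, hTV, c, hc, hce⟩ := EffCartier.exists_equation hEk y (k ⁻¹ᵁ V.1) hy
    have h0 : Y'.presheaf.map (homOfLE hTV).op (k.app V.1 x) = 0 := by
      refine Regular.eq_zero_of_restrict_basicOpen T.2 hc ?_
      have hsub : Y'.basicOpen c ≤ (k ⁻¹ᵁ W).ι ''ᵁ ((k ⁻¹ᵁ W).ι ⁻¹ᵁ (k ⁻¹ᵁ V.1)) := by
        rw [Scheme.Hom.image_preimage_eq_opensRange_inf, Scheme.Opens.opensRange_ι]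
        intro w hw
        refine ⟨?_, hTV (Y'.basicOpen_le c hw)⟩
        change k w ∈ W
        rw [← SetLike.mem_coe, Regular.basicOpen_eq_compl_support hce] at hw
        have hw2 := hw.2
        rw [Scheme.IdealSheafData.support_comap] at hw2
        rw [← SetLike.mem_coe, hWc]
        exact hw2
      have h1 := (hK V x).mp hx
      change ((k ⁻¹ᵁ W).ι.app (k ⁻¹ᵁ V.1)).hom ((k.app V.1).hom x) = 0 at h1
      rw [Scheme.Opens.ι_app] at h1
      have h2 := (congrArg (Y'.presheaf.map (homOfLE hsub).op).hom h1).trans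
        (RingHom.map_zero (Y'.presheaf.map (homOfLE hsub).op).hom)
      erw [← CommRingCat.comp_apply, ← Functor.map_comp] at h2
      rw [← CommRingCat.comp_apply, ← Functor.map_comp]
      exact h2
    have h3 := congrArg (Y'.presheaf.germ T.1 y hyT) h0
    rw [TopCat.Presheaf.germ_res_apply, map_zero] at h3
    exact h3.trans (map_zero _).symm
  have hKf : f.ker ≤ (K.subschemeι ≫ b).ker := by
    rw [Scheme.Hom.ker_comp K.subschemeι b, Scheme.IdealSheafData.ker_subschemeι,
      ← Scheme.Hom.ker_comp ((k ⁻¹ᵁ W).ι ≫ k) b, Category.assoc, hk]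
    exact ((Scheme.Hom.le_ker_comp b' f).trans (Scheme.Hom.le_ker_comp _ _))
  let g := IsClosedImmersion.lift f (K.subschemeι ≫ b) hKf
  have hg : g ≫ f = K.subschemeι ≫ b := IsClosedImmersion.lift_fac _ _ _
  have hgc : BlowUp.IsEffCartierIdeal ((𝓘.comap f).comap g) := by
    rw [← Scheme.IdealSheafData.comap_comp, hg, Scheme.IdealSheafData.comap_comp]
    exact hcart
  obtain ⟨h, hh, -⟩ := hb'.2 _ g hgc
  let k' := IsClosedImmersion.lift K.subschemeι k
    (by rw [Scheme.IdealSheafData.ker_subschemeι]; exact hKk)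
  have hk' : k' ≫ K.subschemeι = k := IsClosedImmersion.lift_fac _ _ _
  have e1 : h ≫ k = K.subschemeι := by
    refine Basic.hom_ext hb ?_ ?_
    · rw [Category.assoc, hk, ← Category.assoc, hh, hg, Scheme.IdealSheafData.comap_comp]
      exact hcart
    · rw [Category.assoc, hk, ← Category.assoc, hh, hg]
  have e2 : h ≫ k' = 𝟙 _ := by
    rw [← cancel_mono K.subschemeι, Category.assoc, hk', e1, Category.id_comp]
  have e3 : k' ≫ h = 𝟙 _ := by
    have h5 : (k' ≫ h) ≫ b' = b' := by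
      rw [← cancel_mono f, Category.assoc, Category.assoc, ← hk, ← Category.assoc h, e1,
        ← Category.assoc, hk']
    refine Basic.hom_ext hb' ?_ ?_
    · rw [h5]; exact hb'.1
    · rw [h5, Category.id_comp]
  have : IsIso k' := ⟨h, e3, e2⟩
  refine ⟨?_, haff, ?_⟩
  · rw [← hk']; infer_instance
  · conv_rhs => rw [← hk', Scheme.Hom.ker_comp_of_isIso]
    exact (Scheme.IdealSheafData.ker_subschemeι K).symm

end Groth.Agent.BlowUp.StrictClosed
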