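import Groth.Agent.BlowUp.Basic

/-!
# Where strict transforms cannot pass
-/

set_option autoImplicit false

universe u

open CategoryTheory CategoryTheory.Limits AlgebraicGeometry TopologicalSpace
open Groth.Agent.IdealSh

namespace Groth.Agent.BlowUp.StrictDisjoint

variable {X X' Y' : Scheme.{u}}

/-- The strict transform of `V(𝓙)` misses the opens on which the exceptional ideal is contained in
the inverse image of `𝓙`. -/
lemma false_of_le {𝓙 𝓚 : X.IdealSheafData} {b : X' ⟶ X} {b' : Y' ⟶ 𝓙.subscheme}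
    (hb' : BlowUp.IsEffCartierIdeal ((𝓚.comap 𝓙.subschemeι).comap b')) {k : Y' ⟶ X'}
    (hk : k ≫ b = b' ≫ 𝓙.subschemeι) (V' : X'.affineOpens)
    (hle : (𝓚.comap b).ideal V' ≤ (𝓙.comap b).ideal V') (y : Y') (hy : k y ∈ V'.1) : False := by
  have h1 : (𝓙.comap b).comap k = ⊥ := by
    rw [← Scheme.IdealSheafData.comap_comp, hk, Scheme.IdealSheafData.comap_comp]
    have h2 : 𝓙.comap 𝓙.subschemeι = ⊥ := by
      refine le_bot_iff.mp (Scheme.IdealSheafData.le_map_iff_comap_le.mp ?_)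
      rw [Scheme.IdealSheafData.map_bot, Scheme.IdealSheafData.ker_subschemeι]
    rw [h2, Scheme.IdealSheafData.comap_bot]
  have hK : BlowUp.IsEffCartierIdeal ((𝓚.comap b).comap k) := by
    rw [← Scheme.IdealSheafData.comap_comp, hk, Scheme.IdealSheafData.comap_comp]
    exact hb'
  obtain ⟨T, hyT, hTle, c, hc, hce⟩ := EffCartier.exists_equation hK y (k ⁻¹ᵁ V'.1) hy
  have h3 : ((𝓚.comap b).comap k).ideal T ≤ ((𝓙.comap b).comap k).ideal T := by
    rw [Comap.ideal_comap _ k V' T hTle, Comap.ideal_comap _ k V' T hTle]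
    exact Ideal.map_mono hle
  rw [hce, h1, Scheme.IdealSheafData.ideal_bot, Pi.bot_apply, le_bot_iff,
    Ideal.span_singleton_eq_bot] at h3
  have : Nonempty T.1 := ⟨⟨y, hyT⟩⟩
  subst h3
  exact zero_notMem_nonZeroDivisors hc

lemma exists_mem_le {ι : Type*} (𝓙 : ι → X.IdealSheafData) {b : X' ⟶ X}
    (hb : BlowUp.IsEffCartierIdeal ((⨆ i, 𝓙 i).comap b)) (x : X') :
    ∃ (V' : X'.affineOpens) (i : ι), x ∈ V'.1 ∧
      ((⨆ i, 𝓙 i).comap b).ideal V' ≤ ((𝓙 i).comap b).ideal V' := by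
  obtain ⟨V, hxV, e, he, hVe⟩ := hb x
  have hsum : ((⨆ i, 𝓙 i).comap b).ideal V = ⨆ i, ((𝓙 i).comap b).ideal V := by
    rw [(Scheme.IdealSheafData.map_gc b).l_iSup, Scheme.IdealSheafData.ideal_iSup, iSup_apply]
  let T : ι → Ideal Γ(X', V.1) := fun i => (((𝓙 i).comap b).ideal V).colon {e}
  have hle : ∀ i, ((𝓙 i).comap b).ideal V ≤ Ideal.span {e} * T i := fun i z hz => by
    obtain ⟨t, rfl⟩ := Ideal.mem_span_singleton'.mp ((hVe ▸ hsum ▸ le_iSup (fun i =>
      ((𝓙 i).comap b).ideal V) i : ((𝓙 i).comap b).ideal V ≤ Ideal.span {e}) hz)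
    exact Ideal.mem_span_singleton_mul.mpr
      ⟨t, Submodule.mem_colon_singleton.mpr (by simpa [smul_eq_mul] using hz), mul_comm _ _⟩
  have hone : (1 : Γ(X', V.1)) ∈ ⨆ i, T i := by
    have h1 : e ∈ Ideal.span {e} * ⨆ i, T i := by
      have h2 : e ∈ ⨆ i, ((𝓙 i).comap b).ideal V := by
        rw [← hsum, hVe]; exact Ideal.subset_span rfl
      exact (iSup_le fun i => (hle i).trans (Ideal.mul_mono_right (le_iSup T i))) h2
    obtain ⟨z, hz, hz'⟩ := Ideal.mem_span_singleton_mul.mp h1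
    rwa [(mul_cancel_left_mem_nonZeroDivisors he).mp (hz'.trans (mul_one e).symm)] at hz
  obtain ⟨i, t, ht, hu⟩ : ∃ i, ∃ t ∈ T i, IsUnit (X'.presheaf.germ V.1 x hxV t) := by
    by_contra hcon
    push Not at hcon
    have h2 : (⨆ i, T i) ≤ (IsLocalRing.maximalIdeal (X'.presheaf.stalk x)).comap
        (X'.presheaf.germ V.1 x hxV).hom := iSup_le fun i t ht => hcon i t ht
    exact h2 hone (by simp)
  refine ⟨X'.affineBasicOpen t, i, (X'.mem_basicOpen _ _ hxV).mpr hu, ?_⟩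
  have hle' : (X'.affineBasicOpen t).1 ≤ V.1 := X'.basicOpen_le t
  rw [← Scheme.IdealSheafData.map_ideal _ hle', hVe, Ideal.map_span, Set.image_singleton,
    Ideal.span_le, Set.singleton_subset_iff, SetLike.mem_coe]
  have h3 := ((𝓙 i).comap b).ideal_le_comap_ideal hle'
    (Submodule.mem_colon_singleton.mp ht : t * e ∈ _)
  rw [Ideal.mem_comap, smul_eq_mul, map_mul] at h3
  refine (Ideal.unit_mul_mem_iff_mem _ ?_).mp h3
  exact RingedSpace.isUnit_res_basicOpen X'.toLocallyRingedSpace.toRingedSpace t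

end Groth.Agent.BlowUp.StrictDisjoint
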